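import Cfsg.Agent.Lib.Sporadic.LyCoset.States

set_option autoImplicit false
set_option maxRecDepth 20000
set_option Elab.async false

/-! The states are in normal form and increasing (owner: helper25). -/

namespace CfsgLib.Sporadic.LyCoset

theorem states_part0 : (List.range' 0 3255).all stateOK = true := by decide +kernel

theorem states_part1 : (List.range' 3255 3255).all stateOK = true := by decide +kernel

theorem states_part2 : (List.range' 6510 3255).all stateOK = true := by decide +kernel

theorem states_part3 : (List.range' 9765 3255).all stateOK = true := by decide +kernel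

theorem states_part4 : (List.range' 13020 3255).all stateOK = true := by decide +kernel

theorem states_part5 : (List.range' 16275 3255).all stateOK = true := by decide +kernel

theorem states_ok : ∀ t < 19530, stateOK t = true := by
  intro t ht
  rcases Nat.lt_or_ge t 3255 with h0 | h0
  · exact List.all_eq_true.1 states_part0 t (List.mem_range'_1.2 ⟨by omega, by omega⟩)
  rcases Nat.lt_or_ge t 6510 with h1 | h1
  · exact List.all_eq_true.1 states_part1 t (List.mem_range'_1.2 ⟨by omega, by omega⟩)
  rcases Nat.lt_or_ge t 9765 with h2 | h2
  · exact List.all_eq_true.1 states_part2 t (List.mem_range'_1.2 ⟨by omega, by omega⟩)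
  rcases Nat.lt_or_ge t 13020 with h3 | h3
  · exact List.all_eq_true.1 states_part3 t (List.mem_range'_1.2 ⟨by omega, by omega⟩)
  rcases Nat.lt_or_ge t 16275 with h4 | h4
  · exact List.all_eq_true.1 states_part4 t (List.mem_range'_1.2 ⟨by omega, by omega⟩)
  exact List.all_eq_true.1 states_part5 t (List.mem_range'_1.2 ⟨by omega, by omega⟩)

end CfsgLib.Sporadic.LyCoset
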