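import Cfsg.Agent.Lib.Sporadic.LyCoset.Cosets
import Cfsg.Agent.Lib.Sporadic.LyCoset.StateCheck
import Cfsg.Agent.Lib.Sporadic.LyCoset.Cover1
import Cfsg.Agent.Lib.Sporadic.LyCoset.Cover2
import Cfsg.Agent.Lib.Sporadic.LyCoset.Cover3
import Cfsg.Agent.Lib.Sporadic.LyCoset.Cover4

/-!
# The presented Lyons group is finite: at most 8835156 cosets of G₂(5) (owner: helper25)
-/

set_option autoImplicit false
set_option maxRecDepth 20000

namespace CfsgLib.Sporadic.LyCoset

open Cfsg CfsgLib.Sporadic CfsgLib.Sporadic.LyGTwo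
open CfsgLib.Sporadic.LyGroup (gl)

theorem W_base : BaseW W := ⟨rfl, rfl⟩

theorem holds_all : HoldsUpTo W facts facts.length := by
  refine facts_hold (why := why) W_base fun q hq => ?_
  have hlen : facts.length = 76 := by decide +kernel
  rw [hlen] at hq
  have h : ∀ lo len, factsOK W facts why lo len = true → lo ≤ q → q < lo + len →
      (match facts[q]?, why[q]? with
        | some e, some y => factOK W facts q e y
        | _, _ => false) = true := fun lo len h h1 h2 =>
    List.all_eq_true.1 h q (List.mem_range'_1.2 ⟨h1, h2⟩)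
  rcases Nat.lt_or_ge q 26 with h0 | h0
  · exact h _ _ facts_part0 (Nat.zero_le _) h0
  rcases Nat.lt_or_ge q 51 with h1 | h1
  · exact h _ _ facts_part1 h0 h1
  · exact h _ _ facts_part2 h1 hq

theorem stab_all : ∀ k ∈ [1, 2, 3, 4], stabOK k = true := by
  intro k hk
  fin_cases hk
  exacts [stab_one, stab_two, stab_three, stab_four]

theorem gensK_le_stabP {k : ℕ} (hk : k ∈ [1, 2, 3, 4]) : gensK k ≤ stabP k :=
  gensK_le (Or.inr (stab_all k hk)) W_base holds_all

theorem roots_ok : roots1.all (rootOK 1) = true ∧ roots2.all (rootOK 2) = true ∧ roots3.all (rootOK 3) = true ∧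
    roots4.all (rootOK 4) = true := by decide +kernel

theorem roots_seen : seenRoots roots1 = seen1_0 ∧ seenRoots roots2 = seen2_0 ∧ seenRoots roots3 = seen3_0 ∧
    seenRoots roots4 = seen4_0 := by decide +kernel

theorem rows_ok : rowsOKfor 1 rows1 = true ∧ rowsOKfor 2 rows2 = true ∧ rowsOKfor 3 rows3 = true ∧
    rowsOKfor 4 rows4 = true := by decide +kernel

theorem seen_full : seen1_7 = 2 ^ 19530 - 1 ∧ seen2_7 = seen1_7 ∧ seen3_7 = seen1_7 ∧ seen4_7 = seen1_7 := by
  decide +kernel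

theorem reach_all {k : ℕ} (hk : k ∈ [1, 2, 3, 4]) {t : ℕ} (ht : t < 19530) : Reach k t := by
  obtain ⟨r1, r2, r3, r4⟩ := roots_ok
  obtain ⟨s1, s2, s3, s4⟩ := roots_seen
  obtain ⟨w1, w2, w3, w4⟩ := rows_ok
  obtain ⟨f1, f2, f3, f4⟩ := seen_full
  have hbit : Nat.testBit seen1_7 t = true := by rw [f1, Nat.testBit_two_pow_sub_one]; simpa using ht
  fin_cases hk
  · exact cover1_steps (step_sound w1) (s1 ▸ seenRoots_sound r1) t hbit
  · exact cover2_steps (step_sound w2) (s2 ▸ seenRoots_sound r2) t (f2.symm ▸ hbit)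
  · exact cover3_steps (step_sound w3) (s3 ▸ seenRoots_sound r3) t (f3.symm ▸ hbit)
  · exact cover4_steps (step_sound w4) (s4 ▸ seenRoots_sound r4) t (f4.symm ▸ hbit)

/-- hints for the invariance of the base -/
def baseHints : List ℕ := [19436104, 19436104, 19436104, 19436104, 19436104, 37361821, 55646822, 75010193]

theorem base_ok : ∀ g : Fin 8, isN (mGen.getD g.val []) = true ∧
    pairsOK (fun c => vword (wInv (mGen.getD g.val [])) (expC c)) (tab baseIdx) (tab baseIdx)
      (baseHints.getD g.val 0) = true := by decide +kernel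

theorem stateOf_gensK_one {m : P4} (hm : m ∈ gensK 1) : stateOf m = stateOf 1 := by
  let H : Subgroup P4 :=
    { carrier := {g | actSt g (stOf (tab baseIdx)) = stOf (tab baseIdx)}
      one_mem' := actSt_one _
      mul_mem' := fun {a b} ha hb => by
        show actSt (a * b) _ = _
        rw [actSt_mul, ha, hb]
      inv_mem' := fun {a} ha => by
        show actSt a⁻¹ _ = _
        conv_lhs => rw [← ha]
        rw [← actSt_mul, mul_inv_cancel, actSt_one] }
  have hle : gensK 1 ≤ H := by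
    rw [gensK, Subgroup.closure_le]
    rintro _ ⟨w, hw, rfl⟩
    rw [genW, show Nat.beq 1 1 = true from rfl, cond_true] at hw
    obtain ⟨g, hg, hgw⟩ := List.getElem_of_mem hw
    obtain ⟨hn, hp⟩ := base_ok ⟨g, hg⟩
    simp only [List.getD_eq_getElem _ _ hg, hgw] at hn hp
    refine (inv_mem_iff (H := H)).1 ?_
    exact pairsOK_sound (g := (pw w)⁻¹) (fun c => by rw [vact_pw_word (isN_wInv hn), pw_wInv]) hp
  show actSt m⁻¹ _ = actSt 1⁻¹ _
  rw [inv_one, actSt_one]
  exact inv_mem (hle hm)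

theorem stateOf_mul_right {m : P4} (hm : m ∈ gensK 1) (n : P4) : stateOf (n * m) = stateOf n := by
  rw [stateOf_mul_left, stateOf_gensK_one hm, ← stateOf_mul_left, mul_one]

theorem card_gensK_one : 300000 ≤ Nat.card (gensK 1) := card_gensK stab_one

/-- Every element is a stabilising element, an edge, and an element normalised by `z`. -/
theorem decomp {k : ℕ} (hk : k ∈ [1, 2, 3, 4]) (g : P4) : ∃ n m, Dec k n ∧ m ∈ gensK 1 ∧ g = n * m := by
  classical
  choose n hn hs using fun t : Fin 19530 => (reach_all hk t.isLt).2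
  let f : Fin 19530 × gensK 1 → P4 := fun x => n x.1 * x.2.1
  have hf : Function.Injective f := by
    rintro ⟨t, m⟩ ⟨t', m'⟩ he
    have h := congrArg stateOf he
    simp only [f, stateOf_mul_right m.2, stateOf_mul_right m'.2, hs] at h
    obtain rfl := Fin.ext (stOf_inj states_ok t.isLt t'.isLt h)
    exact Prod.ext rfl (Subtype.ext (mul_left_cancel he))
  have hcard : Nat.card P4 ≤ Nat.card (Fin 19530 × gensK 1) := by
    rw [Nat.card_prod, Nat.card_eq_fintype_card (α := Fin 19530), Fintype.card_fin, card_P4_eq]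
    exact le_trans (by norm_num) (Nat.mul_le_mul_left 19530 card_gensK_one)
  obtain ⟨⟨t, m⟩, hx⟩ := ((Nat.bijective_iff_injective_and_card f).2
    ⟨hf, le_antisymm (Nat.card_le_card_of_injective f hf) hcard⟩).2 g
  exact ⟨n t, m.1, hn t, m.2, hx.symm⟩

/-- The union of the five double cosets. -/
def InU (x : Spor.Ly) : Prop := ∃ k < 5, ∃ a ∈ N0, ∃ b ∈ N0, x = a * ev (W k) * b

theorem conj_M {m : P4} (hm : m ∈ gensK 1) : ∃ c ∈ N0, toLy m * Z = Z * c := by
  have hle : gensK 1 ≤ N0.comap ((MulAut.conj Z⁻¹).toMonoidHom.comp toLy) := by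
    rw [gensK, Subgroup.closure_le]
    rintro _ ⟨w, hw, rfl⟩
    rw [genW, show Nat.beq 1 1 = true from rfl, cond_true] at hw
    obtain ⟨g, hg, hgw⟩ := List.getElem_of_mem hw
    obtain ⟨⟨hn1, hn2⟩, -⟩ := conj_ok ⟨g, hg⟩
    have hz := conj_gen (g := g) hg
    simp only [List.getD_eq_getElem _ _ hg, hgw] at hn1 hz
    show MulAut.conj Z⁻¹ (toLy (pw w)) ∈ N0
    rw [MulAut.conj_apply, inv_inv, toLy_pw hn1, mul_assoc, hz, inv_mul_cancel_left]
    exact ev_mem hn2
  exact ⟨Z⁻¹ * toLy m * Z, by simpa using hle hm, by group⟩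

theorem inU_mul_N {x c : Spor.Ly} (hx : InU x) (hc : c ∈ N0) : InU (x * c) := by
  obtain ⟨k, hk, a, ha, b, hb, rfl⟩ := hx
  exact ⟨k, hk, a, ha, b * c, mul_mem hb hc, by group⟩

theorem inU_mul_Z {x : Spor.Ly} (hx : InU x) : InU (x * Z) := by
  obtain ⟨k, hk, a, ha, b, ⟨g, rfl⟩, rfl⟩ := hx
  rcases Nat.eq_zero_or_pos k with rfl | hpos
  · refine ⟨1, by norm_num, a * toLy g, mul_mem ha ⟨g, rfl⟩, 1, one_mem _, ?_⟩
    rw [W_base.1, W_base.2, ev_nil, mul_one, mul_one, ev_cons, ev_nil, mul_one]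
    rfl
  have hk4 : k ∈ [1, 2, 3, 4] := by interval_cases k <;> simp
  obtain ⟨n, m, ⟨e, he, hs, hi, h, hh, rfl⟩, hm, rfl⟩ := decomp hk4 g
  obtain ⟨hei, hek, hea, hel, hem⟩ := facts_get he
  obtain ⟨q, hq, hqe⟩ := List.getElem_of_mem he
  have hE := holds_all q e hq (List.getElem?_eq_some_iff.2 ⟨hq, hqe⟩)
  rw [Holds, hs, cond_false, hi] at hE
  obtain ⟨c, hc, hcz⟩ := conj_M hm
  have hst := mem_stabP.1 (gensK_le_stabP hk4 hh)
  refine ⟨e.k, hek, a * (ev (W k) * toLy h * (ev (W k))⁻¹) * ev e.l, mul_mem (mul_mem ha hst) (ev_mem hel),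
    ev e.m * c, mul_mem (ev_mem hem) hc, ?_⟩
  rw [map_mul, map_mul, toLy_pw hea]
  calc a * ev (W k) * (toLy h * ev e.a * toLy m) * Z
      = a * ev (W k) * toLy h * ev e.a * (toLy m * Z) := by group
    _ = a * (ev (W k) * toLy h * (ev (W k))⁻¹) * (ev (W k) * ev e.a * Z) * c := by rw [hcz]; group
    _ = _ := by rw [hE]; group

theorem inU_all (x : Spor.Ly) : InU x := by
  let H : Subgroup Spor.Ly :=
    { carrier := {z | ∀ y, InU y → InU (y * z) ∧ InU (y * z⁻¹)}
      one_mem' := fun y hy => by simpa using hy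
      mul_mem' := fun {u v} hu hv y hy => by
        rw [mul_inv_rev, ← mul_assoc, ← mul_assoc]
        exact ⟨(hv _ (hu y hy).1).1, (hu _ (hv y hy).2).2⟩
      inv_mem' := fun {u} hu y hy => by
        rw [inv_inv]
        exact ⟨(hu y hy).2, (hu y hy).1⟩ }
  have hle : (⊤ : Subgroup Spor.Ly) ≤ H := by
    rw [← LyGroup.gl_closure, Subgroup.closure_le]
    rintro _ ⟨k, hk, rfl⟩ y hy
    by_cases h8 : k = 8
    · subst h8
      change InU (y * Z) ∧ InU (y * Z⁻¹)
      rw [Z_inv, ← mul_assoc]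
      exact ⟨inU_mul_Z hy, inU_mul_Z (inU_mul_N hy (ev_mem (by decide +kernel)))⟩
    · have hN : gl k ∈ N0 := by
        have := ev_mem (w := [k]) (by fin_cases hk <;> first | decide +kernel | exact absurd rfl h8)
        simpa using this
      exact ⟨inU_mul_N hy hN, inU_mul_N hy (inv_mem hN)⟩
  have h1 : InU 1 := ⟨0, by norm_num, 1, one_mem _, 1, one_mem _, by simp [W_base.1]⟩
  simpa using (hle (Subgroup.mem_top x) 1 h1).1

/-- The bound for the index. -/
theorem stabP_index {k : ℕ} (hk : k ∈ [1, 2, 3, 4]) :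
    (stabP k).index * stabOrders.getD k 0 ≤ 5859000000 := by
  rw [← card_P4_eq, ← (stabP k).index_mul_card]
  exact Nat.mul_le_mul_left _ ((card_gensK (stab_all _ hk)).trans (Subgroup.card_le_of_le (gensK_le_stabP hk)))

theorem stabP_zero : stabP 0 = ⊤ := by
  ext g
  rw [mem_stabP, W_base.1, ev_nil, one_mul, inv_one, mul_one]
  simp [N0]

/-- The cosets reached from the representatives. -/
noncomputable def toPt (x : Σ k : Fin 5, P4 ⧸ stabP k.val) : Spor.Ly ⧸ N0 :=
  Quotient.liftOn' x.2 (fun g => toLy g • pt x.1.val) fun a b hab => by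
    rw [QuotientGroup.leftRel_apply] at hab
    have h : toLy (a⁻¹ * b) • pt x.1.val = pt x.1.val := MulAction.mem_stabilizer_iff.1 hab
    show toLy a • pt x.1.val = toLy b • pt x.1.val
    conv_lhs => rw [← h, smul_smul, ← map_mul, mul_inv_cancel_left]

theorem toPt_surjective : Function.Surjective toPt := by
  intro q
  obtain ⟨g, rfl⟩ := QuotientGroup.mk_surjective q
  obtain ⟨k, hk, a, ha, b, ⟨h, rfl⟩, hg⟩ := inU_all g⁻¹
  refine ⟨⟨⟨k, hk⟩, ((h⁻¹ : P4) : P4 ⧸ stabP k)⟩, ?_⟩
  show toLy h⁻¹ • pt k = (g : Spor.Ly ⧸ N0)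
  rw [map_inv, pt, MulAction.Quotient.smul_coe, smul_eq_mul, QuotientGroup.eq,
    show g = (g⁻¹)⁻¹ from (inv_inv g).symm, hg]
  rw [show ((toLy h)⁻¹ * (ev (W k))⁻¹)⁻¹ * (a * ev (W k) * toLy h)⁻¹ = a⁻¹ by group]
  exact inv_mem ha

instance finite_cosets : Finite (Spor.Ly ⧸ N0) := Finite.of_surjective _ toPt_surjective

theorem index_le : N0.index ≤ 8835156 := by
  have h0 : (stabP 0).index = 1 := by rw [stabP_zero, Subgroup.index_top]
  have h1 := stabP_index (k := 1) (by simp)
  have h2 := stabP_index (k := 2) (by simp)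
  have h3 := stabP_index (k := 3) (by simp)
  have h4 := stabP_index (k := 4) (by simp)
  have hsum : Nat.card (Σ k : Fin 5, P4 ⧸ stabP k.val) =
      (stabP 0).index + (stabP 1).index + (stabP 2).index + (stabP 3).index + (stabP 4).index := by
    rw [Nat.card_sigma, Fin.sum_univ_five]; rfl
  refine (Nat.card_le_card_of_surjective _ toPt_surjective).trans ?_
  rw [hsum, h0]
  have a1 : (stabP 1).index ≤ 19530 :=
    Nat.le_of_mul_le_mul_right (show (stabP 1).index * 300000 ≤ 19530 * 300000 from h1) (by norm_num)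
  have a2 : (stabP 2).index ≤ 968750 :=
    Nat.le_of_mul_le_mul_right (show (stabP 2).index * 6048 ≤ 968750 * 6048 from h2) (by norm_num)
  have a3 : (stabP 3).index ≤ 5812500 :=
    Nat.le_of_mul_le_mul_right (show (stabP 3).index * 1008 ≤ 5812500 * 1008 from h3) (by norm_num)
  have a4 : (stabP 4).index ≤ 2034375 :=
    Nat.le_of_mul_le_mul_right (show (stabP 4).index * 2880 ≤ 2034375 * 2880 from h4) (by norm_num)
  calc 1 + (stabP 1).index + (stabP 2).index + (stabP 3).index + (stabP 4).index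
      ≤ 1 + 19530 + 968750 + 5812500 + 2034375 := by
        exact Nat.add_le_add (Nat.add_le_add (Nat.add_le_add (Nat.add_le_add le_rfl a1) a2) a3) a4
    _ ≤ 8835156 := by norm_num

instance finite_Ly : Finite Spor.Ly := by
  have : Finite N0 := Finite.of_surjective _ toLy.rangeRestrict_surjective
  exact Finite.of_equiv _ (Subgroup.groupEquivQuotientProdSubgroup (s := N0)).symm

theorem card_N0 : Nat.card N0 = 5859000000 := by
  rw [← card_P4_eq]
  exact (Nat.card_congr (MonoidHom.ofInjective toLy_injective).toEquiv).symm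

theorem card_le : Nat.card Spor.Ly ≤ 51765179004000000 := by
  rw [← N0.index_mul_card, card_N0]
  exact (Nat.mul_le_mul_right _ index_le).trans (by norm_num)

end CfsgLib.Sporadic.LyCoset
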