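import Cfsg.Agent.Lib.Sporadic.LyCoset.Vec
import Cfsg.Agent.Lib.Sporadic.LyGTwo.Bound

/-!
# Lower bounds for subgroups from orbits on vectors (owner: helper25)
-/

set_option autoImplicit false
set_option maxRecDepth 20000

namespace CfsgLib.Sporadic.LyCoset

open CfsgLib.Sporadic.LyGTwo
open CfsgLib.Sporadic.LyRep (strict strict_eq)

/-- One level: a base vector (compact), generators fixing the earlier bases, a spanning tree of the orbit. -/
structure Lvl where
  /-- the base vector -/
  base : ℕ
  /-- generators -/
  gens : List (List ℕ)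
  /-- generator number and earlier position of each further point -/
  tree : List (ℕ × ℕ)

/-- All generators of a list of levels. -/
def gensOf : List Lvl → List (List ℕ)
  | [] => []
  | l :: ls => l.gens ++ gensOf ls

/-- The points reached along a tree. -/
noncomputable def orbitPts (g : List (List ℕ)) (tree : List (ℕ × ℕ)) (b : ℕ) : List ℕ :=
  tree.foldl (fun pts e => pts ++ [vword (g.getD e.1 []) (pts.getD e.2 b)]) [b]

/-- Weights of the slots. -/
def idxRows : List (ℕ × ℕ) := [(1, 0), (5, 24), (25, 48), (125, 72), (625, 96), (3125, 120), (15625, 144)]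

/-- A small number for an expanded vector. -/
noncomputable def idxV (x : ℕ) : ℕ := colDot slotMask idxRows x

/-- All entries have different indices. -/
noncomputable def distinctV (l : List ℕ) : ℕ → Bool :=
  List.rec (motive := fun _ => ℕ → Bool) (fun _ => true)
    (fun a _ ih seen => !(Nat.testBit seen (idxV a)) && ih (Nat.lor seen (Nat.shiftLeft 1 (idxV a)))) l

/-- The points are permuted by the generators. -/
noncomputable def closedPts (g : List (List ℕ)) (pts : List ℕ) : Bool :=
  g.all fun w => pts.all fun p => strict (vword w p) fun y => pts.any fun q => Nat.beq y q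

/-- A checked level list. -/
noncomputable def lvlsOK : List Lvl → Bool
  | [] => true
  | l :: ls => (gensOf ls).all (fun w => Nat.beq (vword w (expC l.base)) (expC l.base)) &&
      (distinctV (orbitPts l.gens l.tree (expC l.base)) 0 &&
      (closedPts (gensOf (l :: ls)) (orbitPts l.gens l.tree (expC l.base)) && lvlsOK ls))

/-- The product of the orbit lengths. -/
def orbitProd : List Lvl → ℕ
  | [] => 1
  | l :: ls => (l.tree.length + 1) * orbitProd ls

/-- The stabiliser of a vector. -/
noncomputable def fixV (v : V7) : Subgroup P4 where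
  carrier := {g | vact v g = v}
  one_mem' := vact_one v
  mul_mem' {g h} hg hh := by
    show vact v (g * h) = v
    rw [vact_mul, hg, hh]
  inv_mem' {g} hg := by
    show vact v g⁻¹ = v
    conv_lhs => rw [← hg]
    rw [← vact_mul, mul_inv_cancel, vact_one]

theorem distinctV_nodup : ∀ {l : List ℕ} {seen : ℕ}, distinctV l seen = true →
    l.Nodup ∧ ∀ a ∈ l, Nat.testBit seen (idxV a) = false
  | [], _, _ => by simp
  | a :: l, seen, h => by
    have h' : (!(Nat.testBit seen (idxV a)) && distinctV l (Nat.lor seen (Nat.shiftLeft 1 (idxV a)))) = true := h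
    simp only [Bool.and_eq_true, Bool.not_eq_true'] at h'
    obtain ⟨hn, hs⟩ := distinctV_nodup h'.2
    have hl : ∀ x ∈ l, idxV x ≠ idxV a ∧ Nat.testBit seen (idxV x) = false := fun x hx => by
      have := hs x hx
      rw [show Nat.lor seen (Nat.shiftLeft 1 (idxV a)) = seen ||| 1 <<< idxV a from rfl, Nat.one_shiftLeft,
        Nat.testBit_or, Bool.or_eq_false_iff, Nat.testBit_two_pow] at this
      simp only [decide_eq_false_iff_not] at this
      exact ⟨fun e => this.2 e.symm, this.1⟩
    refine ⟨List.nodup_cons.2 ⟨fun ha => (hl a ha).1 rfl, hn⟩, ?_⟩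
    intro x hx
    rcases List.mem_cons.1 hx with rfl | hx
    · exact h'.1
    · exact (hl x hx).2

theorem orbitPts_mem {K : Subgroup P4} {g : List (List ℕ)} (hlt : ∀ w ∈ g, ∀ k ∈ w, k < 8)
    (hK : ∀ w ∈ g, (w.map L).prod ∈ K) (b : V7) : ∀ (tree : List (ℕ × ℕ)) (pts : List ℕ),
    (∀ p ∈ pts, ∃ k ∈ K, encV (vact b k) = p) →
    ∀ p ∈ tree.foldl (fun pts e => pts ++ [vword (g.getD e.1 []) (pts.getD e.2 (encV b))]) pts,
      ∃ k ∈ K, encV (vact b k) = p
  | [], _, h => h
  | e :: tree, pts, h => by
    refine orbitPts_mem hlt hK b tree _ fun p hp => ?_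
    rcases List.mem_append.1 hp with hp | hp
    · exact h p hp
    · obtain rfl := List.mem_singleton.1 hp
      obtain ⟨k, hk, hkb⟩ : ∃ k ∈ K, encV (vact b k) = pts.getD e.2 (encV b) := by
        rcases Nat.lt_or_ge e.2 pts.length with hl | hl
        · rw [List.getD_eq_getElem _ _ hl]; exact h _ (List.getElem_mem hl)
        · rw [List.getD_eq_default _ _ hl]; exact ⟨1, one_mem K, by rw [vact_one]⟩
      rcases Nat.lt_or_ge e.1 g.length with hl | hl
      · rw [List.getD_eq_getElem _ _ hl]
        refine ⟨k * (g[e.1].map L).prod, mul_mem hk (hK _ (List.getElem_mem hl)), ?_⟩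
        rw [vact_mul, vact_word (hlt _ (List.getElem_mem hl)), hkb]
      · rw [List.getD_eq_default _ _ hl]
        exact ⟨k, hk, hkb⟩

theorem orbitPts_length (g : List (List ℕ)) (b : ℕ) : ∀ (tree : List (ℕ × ℕ)) (pts : List ℕ),
    (tree.foldl (fun pts e => pts ++ [vword (g.getD e.1 []) (pts.getD e.2 b)]) pts).length = pts.length + tree.length
  | [], _ => rfl
  | e :: tree, pts => by
    rw [List.foldl_cons, orbitPts_length g b tree]
    simp only [List.length_append, List.length_cons, List.length_nil]
    omega

instance finite_P4 : Finite P4 := card_P4.1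

/-- The orbit lengths divide the order of the subgroup. -/
theorem orbitProd_dvd : ∀ {ls : List Lvl} (K : Subgroup P4), lvlsOK ls = true →
    (∀ w ∈ gensOf ls, ∀ k ∈ w, k < 8) → (∀ w ∈ gensOf ls, (w.map L).prod ∈ K) → orbitProd ls ∣ Nat.card K
  | [], K, _, _, _ => one_dvd _
  | l :: ls, K, h, hlt, hK => by
    classical
    simp only [lvlsOK, Bool.and_eq_true, List.all_eq_true, Nat.beq_eq] at h
    obtain ⟨hfix, hd, hcl, hrest⟩ := h
    set b : V7 := decC l.base
    rw [expC_eq] at hfix hd hcl
    set T : Set P4 := {g | ∃ w ∈ gensOf (l :: ls), g = (w.map L).prod} with hT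
    set K' : Subgroup P4 := Subgroup.closure T with hK'
    have hgen : ∀ w ∈ gensOf (l :: ls), (w.map L).prod ∈ K' := fun w hw => Subgroup.subset_closure ⟨w, hw, rfl⟩
    have hsub : ∀ w ∈ gensOf ls, w ∈ gensOf (l :: ls) := fun w hw => List.mem_append_right _ hw
    have hrec := orbitProd_dvd (ls := ls) (K' ⊓ fixV b) hrest (fun w hw => hlt w (hsub w hw)) fun w hw =>
      ⟨hgen w (hsub w hw), encV_injective ((vact_word (hlt w (hsub w hw)) b).trans (hfix w hw))⟩
    refine (Nat.mul_dvd_mul_left (l.tree.length + 1) hrec).trans ?_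
    suffices hstep : Nat.card K' = (l.tree.length + 1) * Nat.card (K' ⊓ fixV b : Subgroup P4) by
      rw [← hstep]
      refine Subgroup.card_dvd_of_le ?_
      rw [hK', Subgroup.closure_le]
      rintro _ ⟨w, hw, rfl⟩
      exact hK w hw
    obtain ⟨hn, -⟩ := distinctV_nodup hd
    have hmem : ∀ p ∈ orbitPts l.gens l.tree (encV b), ∃ k ∈ K', encV (vact b k) = p :=
      orbitPts_mem (fun w hw => hlt w (List.mem_append_left _ hw)) (fun w hw => hgen w (List.mem_append_left _ hw)) b
        l.tree [encV b] (fun p hp => ⟨1, one_mem K', by rw [List.mem_singleton.1 hp, vact_one]⟩)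
    have hlen : (orbitPts l.gens l.tree (encV b)).length = l.tree.length + 1 := by
      rw [orbitPts, orbitPts_length]; simp [Nat.add_comm]
    have hb : encV b ∈ orbitPts l.gens l.tree (encV b) := by
      suffices ∀ (tree : List (ℕ × ℕ)) (pts : List ℕ), encV b ∈ pts →
          encV b ∈ tree.foldl (fun pts e => pts ++ [vword (l.gens.getD e.1 []) (pts.getD e.2 (encV b))]) pts from
        this l.tree [encV b] List.mem_cons_self
      intro tree
      induction tree with
      | nil => exact fun _ h => h
      | cons e tree ih => exact fun pts h => ih _ (List.mem_append_left _ h)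
    generalize orbitPts l.gens l.tree (encV b) = pts at hlen hn hmem hcl hb
    have horb : ∀ g ∈ K', ∀ v : V7, encV v ∈ pts → encV (vact v g) ∈ pts := by
      intro g hg
      rw [hK', ← Subgroup.mem_toSubmonoid, Subgroup.closure_toSubmonoid_of_finite] at hg
      induction hg using Submonoid.closure_induction with
      | mem x hx =>
        obtain ⟨w, hw, rfl⟩ := hx
        intro v hv
        simp only [closedPts, List.all_eq_true, strict_eq, List.any_eq_true, Nat.beq_eq] at hcl
        obtain ⟨q, hq, e⟩ := hcl w hw _ hv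
        rw [vact_word (hlt w hw), e]
        exact hq
      | one => intro v hv; rwa [vact_one]
      | mul x y _ _ hx hy => intro v hv; rw [vact_mul]; exact hy _ (hx _ hv)
    choose f hfK hfb using hmem
    let Φ : Fin pts.length × ↥(K' ⊓ fixV b) → K' := fun x =>
      ⟨x.2.1 * f _ (List.getElem_mem x.1.isLt), mul_mem x.2.2.1 (hfK _ (List.getElem_mem x.1.isLt))⟩
    have hΦ : Function.Bijective Φ := by
      constructor
      · rintro ⟨i, s⟩ ⟨i', s'⟩ he
        have he' := congrArg Subtype.val he
        simp only [Φ] at he'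
        have hs : vact b s.1 = b := s.2.2
        have hs' : vact b s'.1 = b := s'.2.2
        have hi : i = i' := by
          have := congrArg (fun g => encV (vact b g)) he'
          simp only [vact_mul, hs, hs'] at this
          rw [hfb _ (List.getElem_mem i.isLt), hfb _ (List.getElem_mem i'.isLt)] at this
          exact Fin.ext ((List.Nodup.getElem_inj_iff hn).1 this)
        subst hi
        exact Prod.ext rfl (Subtype.ext (mul_right_cancel he'))
      · rintro ⟨k, hk⟩
        obtain ⟨i, hi, he⟩ := List.getElem_of_mem (horb k hk b hb)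
        have hf := hfb _ (List.getElem_mem hi)
        refine ⟨⟨⟨i, hi⟩, ⟨k * (f _ (List.getElem_mem hi))⁻¹, K'.mul_mem hk (K'.inv_mem (hfK _ (List.getElem_mem hi))), ?_⟩⟩,
          Subtype.ext (inv_mul_cancel_right k _)⟩
        show vact b (k * (f _ (List.getElem_mem hi))⁻¹) = b
        have e : vact b k = vact b (f _ (List.getElem_mem hi)) := encV_injective (by rw [hf, he])
        rw [vact_mul, e, ← vact_mul, mul_inv_cancel, vact_one]
    rw [← Nat.card_congr (Equiv.ofBijective Φ hΦ), Nat.card_prod, Nat.card_eq_fintype_card, Fintype.card_fin, hlen]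

end CfsgLib.Sporadic.LyCoset
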