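import Cfsg.Agent.Lib.Sporadic.LyCoset.Word

/-!
# Checking deductions among double cosets (owner: helper25)
An edge `(i, a, k, l, m)` says `W i · a · z = l · W k · m`; a stabilising fact says `W i · a = l · W i`.
-/

set_option autoImplicit false
set_option maxRecDepth 20000

namespace CfsgLib.Sporadic.LyCoset

/-- A fact. -/
structure Rec where
  /-- a stabilising fact -/
  stab : Bool
  /-- source representative -/
  i : ℕ
  /-- target representative -/
  k : ℕ
  /-- source word -/
  a : List ℕ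
  /-- left word -/
  l : List ℕ
  /-- target word -/
  m : List ℕ

/-- Using an earlier edge: stabilising part, edge, normalising part. -/
structure Use where
  /-- the edge -/
  q : ℕ
  /-- the stabilising element -/
  h : List ℕ
  /-- the element normalised by `z` -/
  mm : List ℕ

/-- A derivation: a loop traced from both ends. -/
structure Deriv where
  /-- the relator -/
  r : ℕ
  /-- inverted -/
  inv : Bool
  /-- rotation -/
  rot : ℕ
  /-- letters traced forwards -/
  p : ℕ
  /-- letters traced backwards -/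
  b : ℕ
  /-- start representative -/
  s : ℕ
  /-- start word -/
  x : List ℕ
  /-- edges used forwards -/
  uf : List Use
  /-- edges used backwards -/
  ub : List Use

/-- The reason of a fact. -/
inductive Why
  | defn
  | rev (src : ℕ)
  | loop (d : Deriv)

/-- The relators with `z`. -/
def zRels : List (List ℕ) := [
  [3, 3, 0, 2, 2, 8, 3, 3, 0, 2, 2, 8, 3, 3, 0, 2, 2, 8, 0, 0],
  [5, 7, 1, 5, 1, 2, 5, 7, 8, 1, 6, 3, 5, 1, 2, 5, 7, 2, 5, 3, 1, 5, 0, 3, 0, 2, 0, 3, 8, 1, 5, 7, 0, 5, 3, 0, 5, 7, 1, 5, 0, 4, 3, 3, 5, 3, 1, 3, 3, 8],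
  [9, 7, 9, 1, 5, 7, 2, 1, 3, 5, 7, 2, 1, 3, 5, 3, 0, 3, 3, 0, 3, 8, 6, 8, 0, 2, 1, 2, 2, 1, 2, 2, 5, 0, 4, 2, 4, 3, 6, 4, 3, 3, 6, 4, 2, 4],
  [8, 2, 0, 3, 1, 3, 3, 1, 3, 4, 2, 2, 4, 2, 6, 4, 3, 3, 6, 4, 2, 4, 8, 0, 3, 3, 1, 4, 2, 5, 2, 1, 5, 5, 6, 4, 0, 4, 1, 4, 3, 7, 9, 5, 3, 5, 7, 2, 2, 5, 7, 3, 5, 3, 3, 5, 2, 0, 2, 2, 0, 2, 1, 3, 9, 7, 0, 4, 2, 4, 1, 5, 7, 0, 3, 1, 4, 1, 3, 3, 1, 2, 1],
  [8, 2, 6, 8, 2, 2, 1, 3, 1, 2, 2, 5, 0, 4, 1, 5, 6, 5, 2, 2, 1, 4, 2, 9, 7, 3, 9, 5, 1, 4, 2, 5, 7, 4, 1, 4, 0, 4, 3, 1, 3, 1, 2]]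

/-- Generators of the subgroup normalised by `z`. -/
def mGen : List (List ℕ) := [
  [4],
  [1, 4, 0],
  [3, 4, 2],
  [2, 4, 3],
  [5, 1, 5, 0, 4, 1, 4, 0],
  [0],
  [2, 0, 3],
  [2, 2, 0, 3, 3]]

/-- Their conjugates under `z`. -/
def mImg : List (List ℕ) := [
  [1, 3, 1, 2, 5, 3, 0, 5, 2, 0],
  [3, 3, 0, 4, 1, 2, 4, 2],
  [1, 3, 1, 4, 0, 2, 0],
  [3, 1, 2, 4, 3, 0, 2],
  [2, 2, 1, 3, 4, 2, 0, 4, 3, 3, 5],
  [1, 1, 1],
  [2, 1, 3, 1, 1],
  [0, 2, 2, 0, 3, 3, 1]]

/-- A word in the generators of the normalised subgroup. -/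
noncomputable def mw (h : List ℕ) : List ℕ := h.flatMap fun g => mGen.getD g []

/-- Its conjugate. -/
noncomputable def phw (h : List ℕ) : List ℕ := h.flatMap fun g => mImg.getD g []

/-- A composite of stabilising facts. -/
noncomputable def stabPair (F : List Rec) (lim i : ℕ) (h : List ℕ) : Option (List ℕ × List ℕ) :=
  List.rec (motive := fun _ => Option (List ℕ × List ℕ)) (some ([], []))
    (fun q _ ih => Option.rec none (fun r =>
      match F[q]? with
      | none => none
      | some e => cond (Nat.blt q lim && (e.stab && (Nat.beq e.i i && (isN e.a && isN e.l))))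
          (some (e.a ++ r.1, e.l ++ r.2)) none) ih) h

/-- An element stabilising a representative, with the element it becomes on the left. -/
noncomputable def hSpec (F : List Rec) (lim i : ℕ) (h : List ℕ) : Option (List ℕ × List ℕ) :=
  cond (Nat.beq i 0) (cond (isN h) (some (h, h)) none)
    (cond (Nat.beq i 1) (cond (h.all fun g => Nat.blt g 8) (some (mw h, [0, 0] ++ (phw h ++ [1, 1]))) none)
      (stabPair F lim i h))

/-- One step by `z`. -/
noncomputable def useRes (F : List Rec) (lim i : ℕ) (n : List ℕ) (u : Use) : Option (ℕ × List ℕ × List ℕ) :=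
  match F[u.q]?, hSpec F lim i u.h with
  | some e, some (ha, hl) =>
    cond (Nat.blt u.q lim && (!e.stab && (Nat.beq e.i i && (isN e.l && (isN e.m &&
        ((u.mm.all fun g => Nat.blt g 8) && eqN n (ha ++ (e.a ++ mw u.mm))))))))
      (some (e.k, hl ++ e.l, e.m ++ phw u.mm)) none
  | _, _ => none

/-- Tracing a word: state representative, right word, left word. -/
noncomputable def trace (F : List Rec) (lim : ℕ) : List ℕ → List Use → ℕ × List ℕ × List ℕ →
    Option (ℕ × List ℕ × List ℕ)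
  | [], [], s => some s
  | [], _ :: _, _ => none
  | g :: ops, us, (i, n, l) =>
    cond (Nat.blt g 8) (trace F lim ops us (i, n ++ [g], l))
      (match us with
      | [] => none
      | u :: us => cond (Nat.blt g 10)
          (match useRes F lim i (cond (Nat.beq g 8) n (n ++ [1, 1])) u with
          | none => none
          | some (k, hl, m) => trace F lim ops us (k, m, l ++ hl)) none)

/-- The loop of a derivation. -/
noncomputable def loopWord (d : Deriv) : List ℕ :=
  let w := cond d.inv (wInv (zRels.getD d.r [])) (zRels.getD d.r [])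
  w.drop d.rot ++ w.take d.rot

/-- A derived fact. -/
noncomputable def derivOK (F : List Rec) (q : ℕ) (e : Rec) (d : Deriv) : Bool :=
  isN d.x && (Nat.blt d.r zRels.length &&
  match trace F q ((loopWord d).take d.p) d.uf (d.s, d.x, []),
      trace F q ((wInv (loopWord d)).take d.b) d.ub (d.s, d.x, []) with
  | some (k1, n1, l1), some (k2, n2, l2) =>
    Nat.beq e.i k1 && (Nat.beq e.k k2 && cond e.stab
      (Nat.beq (d.p + d.b) (loopWord d).length && (Nat.beq k1 k2 && (e.m.isEmpty &&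
        (eqN e.a (n1 ++ wInv n2) && eqN e.l (wInv l1 ++ l2)))))
      (Nat.beq (d.p + d.b + 1) (loopWord d).length &&
        (Nat.ble 8 ((loopWord d).getD d.p 0) && (Nat.blt ((loopWord d).getD d.p 0) 10 &&
        (eqN e.a (cond (Nat.beq ((loopWord d).getD d.p 0) 8) n1 (n1 ++ [1, 1])) &&
          (eqN e.m n2 && eqN e.l (wInv l1 ++ l2)))))))
  | _, _ => false)

/-- A fact is justified by the earlier ones. -/
noncomputable def factOK (W : ℕ → List ℕ) (F : List Rec) (q : ℕ) (e : Rec) : Why → Bool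
  | .defn => !e.stab && (e.l.isEmpty && (e.m.isEmpty && (isN e.a && decide (W e.k = W e.i ++ e.a ++ [8]))))
  | .rev src =>
    Nat.blt src q && !e.stab && (match F[src]? with
      | none => false
      | some f => !f.stab && (Nat.beq e.i f.k && (Nat.beq e.k f.i &&
          (eqN e.a f.m && (eqN e.l (wInv f.l) && eqN e.m (f.a ++ [0, 0]))))))
  | .loop d => derivOK F q e d

/-- Consecutive facts are justified. -/
noncomputable def factsOK (W : ℕ → List ℕ) (F : List Rec) (why : List Why) (lo len : ℕ) : Bool :=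
  (List.range' lo len).all fun q => match F[q]?, why[q]? with
    | some e, some y => factOK W F q e y
    | _, _ => false

end CfsgLib.Sporadic.LyCoset
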