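import Cfsg.Agent.Lib.Sporadic.LyCoset.Check

set_option autoImplicit false
set_option maxRecDepth 20000
set_option Elab.async false

/-! The facts and their reasons (owner: helper25). -/

namespace CfsgLib.Sporadic.LyCoset

/-- the representatives -/
def repList : List (List ℕ) := [[], [8], [8,6,8], [8,2,6,8], [8,6,4,6,8]]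

/-- a representative -/
def W (k : ℕ) : List ℕ := repList.getD k []

/-- facts -/
def facts : List Rec := [
  ⟨false,0,1,[],[],[]⟩,
  ⟨false,1,0,[],[],[0,0]⟩,
  ⟨false,1,2,[6],[],[]⟩,
  ⟨false,2,1,[],[],[1,1,6]⟩,
  ⟨false,1,3,[2,6],[],[]⟩,
  ⟨false,3,1,[],[],[1,1,2,6]⟩,
  ⟨false,1,4,[6,4,6],[],[]⟩,
  ⟨false,4,1,[],[],[0,0,6,4,4,6]⟩,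
  ⟨false,1,1,[3,3,0,2,2],[0,0,3,3,0,2,2],[3,3,1,2,2]⟩,
  ⟨false,1,1,[1,3,1,4,2,2,1,5,5,6,4,2,0,3,6,4,6],[4,3,1,2,2,4,0,2,0,4,6,4,1,2,4,1,6,4],[1,5,0,2,5,2,4,0,3,3,4,6,4,1,2,4,1,6,4,0]⟩,
  ⟨true,2,2,[1,3,4,0,3,0,2,4,4,6,4,1,6,4,0,3,5],[3,1,2,4,0,2,4,2,1,6,4,2,0,3,6,4,0],[]⟩,
  ⟨true,4,4,[5,3,0,5,2,2,0,3,3,6,4,1,2,4],[1,2,5,3,0,5,2,2,0,3,6,4,3,0,4],[]⟩,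
  ⟨true,4,4,[1,3,4,2,2,5,3,4,6,4,0,2,0,4,4,3],[0,3,4,0,3,3,4,3,5,1,6,5,2,0,3],[]⟩,
  ⟨true,2,2,[0,5,3,3,0,3,1,2,6,4,2,1,3,6],[0,2,0,3,5,2,0,3,6,4,4,6],[]⟩,
  ⟨true,4,4,[1,4,2,4,0,4,4,3,0,6,4,3,1,2,5,2],[2,0,3,5,0,2,2,6,4,3,3,5,0,5],[]⟩,
  ⟨true,3,3,[2,2,0,3,4,1,2,1,5,1,2,6,5,2,2,1,4,2],[3,0,2,0,2,5,1,5,0,5,6,4,3,5,0,4],[]⟩,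
  ⟨true,3,3,[0,2,4,3,5,5,2,1,5,6,4,0,3,1,4,6],[2,5,1,1,2,2,1,4,3,6,4,1,3,5,0,4],[]⟩,
  ⟨false,3,4,[1,3,3,5,1,3,4,1,1,6,4,1,6,4,0,3,5],[1,4,2,0,3,3,1,3,5],[2,2,4,0,5,3,5,5,3,6]⟩,
  ⟨false,4,3,[2,2,4,0,5,3,5,5,3,6],[4,2,0,2,2,1,3,5,0],[0,2,4,0,3,3,1,4,4,6,4,1,6,4,0,3,5]⟩,
  ⟨true,3,3,[1,2,1,3,1],[0,3,0,3,3,0,3],[]⟩,
  ⟨false,4,3,[3,3,5,0,2,0,3,5,0,3,6,4,0,3,4,0,7,5],[0,4,4,2,5,1,3,4,0,3],[0,3,1,5,2,0,4,1,3,6,4,1,6,4,0,3,5]⟩,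
  ⟨false,3,4,[0,3,1,5,2,0,4,1,3,6,4,1,6,4,0,3,5],[2,1,4,2,5,0,3,4,1,4],[4,1,3,4,3,0,3,4,3,3,6,4,0,4,1,4,3,7]⟩,
  ⟨true,4,4,[0,4,0,3,5,2,4,4],[4,2,0,5,2,0,3,3,1,5],[]⟩,
  ⟨true,3,3,[0,2,4,4,3,4,0,4,1,6,4,0,5,5,2,4,3],[0,2,2,5,5,2,0,3,3,0,5,5,6,4,2,0,2,4,7],[]⟩,
  ⟨false,3,3,[3,3,5,3,3,5,2,1,4,3,6,4,0,3,1,4,0,7],[0,0,5,3,0,2,5,0,5,3],[1,2,1,5,0,2,1,5,3,6]⟩,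
  ⟨false,2,2,[2,5,1,3,4,0,5,3,1,2,6],[2,2,1,5,2,2,5,1,5,0],[3,0,2,0,2,4,1,4,0,4,6,5,3,4,0,5]⟩,
  ⟨false,2,3,[1,4,0,5,3,3,0,2,5,2],[1,1,3,3,1,2],[3,4,3,1,4,1,4,0,2,2]⟩,
  ⟨false,3,2,[3,4,3,1,4,1,4,0,2,2],[0,0,3,0,2,2],[3,1,5,2,1,5,2,0,3,3]⟩,
  ⟨false,2,3,[0,5,2,2,0,2,5,5,2,2,6,4,2,0,3,6,4,6],[4,4,3,1,2,2,1],[4,1,5,1,3,1,3,3,4,1,3,6,4,1,2,4,1,6,4,0]⟩,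
  ⟨false,3,2,[4,1,5,1,3,1,3,3,4,1,3,6,4,1,2,4,1,6,4,0],[0,3,3,0,2,5,5],[1,5,0,5,2,5,0,3,4,6,4,2,0,3,6,4,6]⟩,
  ⟨false,2,4,[0,5,2,0,2,1,5,3,1,3,3,6,4,3,0,4,2,7],[1,2,4,2,5,0,5,5,3,3],[0,5,0,3,1,4,2,0,5,3,6,4,1,2,4,1,6,4]⟩,
  ⟨false,4,2,[0,5,0,3,1,4,2,0,5,3,6,4,1,2,4,1,6,4],[2,2,4,4,1,4,3,5,3,0],[5,5,2,0,3,5,1,5,3,6,4,1,2,4,2,6]⟩,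
  ⟨false,4,3,[3,1,2,2,5,3,5,5,1,3,6,4,3,0,4,2,2],[2,1,5,1,3,4,0,3,4,6,4,4,3,5,1,4],[3,3,0,2,4,0,4,1,4,6,4,2,0,3,6,4,0]⟩,
  ⟨false,3,4,[3,3,0,2,4,0,4,1,4,6,4,2,0,3,6,4,0],[2,1,5,1,4,2,1,2,2,1,5,6,4,0,3,5,1,7,4],[1,3,4,1,3,5,3,5,5,3,6,4,1,2,4,2,2]⟩,
  ⟨false,4,3,[3,3,5,1,2,5,5,1,5,1,6,4,1],[5,1,3,3,5,1,3,5,2,6,4,4,3,3,6,4],[0,2,2,5,0,2,1,4,0,2,2,6]⟩,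
  ⟨false,3,4,[0,2,2,5,0,2,1,4,0,2,2,6],[0,4,4,0,4,2,2,0,5,0,6,4,6,4,2,5,0],[3,3,5,1,2,5,5,1,5,1,6,4,0]⟩,
  ⟨false,2,3,[0,3,0,2,2,5,3,5,1,6,4,1,6,4,0,3,5],[0,2,0,4,1,5,2,2,0,6,4,2,4,0,3,6],[0,4,3,0,2,5,0,2,5,2,0,5,6,4,0,2,2,6,5]⟩,
  ⟨false,3,2,[0,4,3,0,2,5,0,2,5,2,0,5,6,4,0,2,2,6,5],[3,4,2,5,1,4,4,6,5,2,4,1,3],[0,4,1,2,4,1,1,2,2,6,4,1,6,4,0,3,5]⟩,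
  ⟨false,4,3,[2,1,3,5,2,1,5,5,2,1,6,4,3,0,4,2],[1,5,0,4,2,0,4,4,0,6,4,0,3,5,5,6,5],[1,1,4,2,1,2,5,2,1,2,6]⟩,
  ⟨false,3,4,[1,1,4,2,1,2,5,2,1,2,6],[3,1,5,0,3,0,4,3,5,6,4,0,2,0,3,4],[2,2,4,0,4,3,1,3,4,0,6,4,1,2,4,2]⟩,
  ⟨false,3,3,[4,4,3,4,3,1,2,4,4,6,4,3,3,4,6],[5,3,4,4,1,5,5,3,4,6,4,3,4,0,5,3],[2,4,0,2,4,2,0,2,5,0,6]⟩,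
  ⟨false,3,3,[2,4,0,2,4,2,0,2,5,0,6],[0,3,3,4,0,4,2,5,2,1,2,6,4,1,4,4,3,3],[3,3,5,5,0,3,1,5,2,6,4,3,4,1,7]⟩,
  ⟨false,3,3,[0,5,0,4,0,5,5,3,0,4,6,5,1,4,2,0],[1,3,4,1,3,3,1,2,4,0,6,4,0,4,3,3],[4,0,2,1,4,0,4,0,6,4,0,5,3,5,1,6]⟩,
  ⟨false,4,3,[0,5,0,2,2,0,5,3,1,2,6,4,0,3,1,5,0,4],[1,5,2,1,5,1,4,0,5,6,4,0,3,4,4,6,4],[2,4,1,3,1,3,5,3,0,2,6,4,2,0,3,6]⟩,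
  ⟨false,3,4,[2,4,1,3,1,3,5,3,0,2,6,4,2,0,3,6],[0,2,0,3,0,2,5,5,2,4,4,6,4,0,4,1,7,5,5],[0,5,0,2,2,0,5,3,0,2,1,6,5,2,4,3,5,3]⟩,
  ⟨false,2,4,[4,3,4,1,2,2,4,1,5,2,6,5,0,3,1,4,0],[2,4,2,0,4,4,0,3,4,6,4,1,5,5,6,4],[5,5,1,4,1,5,2,1,3,4,6,4,0,3,5,2,4,3]⟩,
  ⟨false,4,2,[5,5,1,4,1,5,2,1,3,4,6,4,0,3,5,2,4,3],[0,5,0,4,2,0,2,2,0,4,6,4,2,1,3,5,3,3],[3,0,2,1,3,4,1,5,3,1,4,6,4,0,3,1,5,1]⟩,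
  ⟨false,3,3,[3,0,4,2,5,2,4,4,1,3,6,5,2,2,0,4],[2,0,3,3,1,5,2,4,2,5,2,6,4,3,4,1,4,0],[2,0,5,5,0,5,1,2,2,6,4,1,6,4,0,3,5]⟩,
  ⟨false,2,4,[1,2,2,5,0,3,5,0,3,6,4,2,1,3,7],[3,0,2,4,0,2,2,0,4,4,2,6,4,2,0,5,0,3],[1,2,5,1,5,1,1,2,4,6,4,1,3,5,1,3]⟩,
  ⟨false,4,2,[1,2,5,1,5,1,1,2,4,6,4,1,3,5,1,3],[1,2,5,2,1,4,3,4,1,2,6,4,0,3,5,3,1,2],[1,2,2,5,0,3,5,0,3,6,4,2,0,3,6]⟩,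
  ⟨false,4,4,[0,0,0,3,3,4,2,4,3,3,6,4,1,4,0,5,2,6],[3,0,3,4,0,2,5,3,3,6,4,0,3,0,5,5,7],[5,5,1,3,1,3,3,4,6]⟩,
  ⟨false,3,3,[3,5,5,0,2,1,4,3,3,5],[0,2,0,2,2,1,2],[0,3,5,0,2,2,1,2,5,0]⟩,
  ⟨false,4,3,[2,2,5,1,3,4,1,1,2,6,4,1,5,2,5],[1,5,2,5,5,1,3,3,1,3,6,4,3,4,2,6,5],[4,4,0,2,0,5,3,5,0,6,4,2,0,3,6,4,0]⟩,
  ⟨false,3,4,[4,4,0,2,0,5,3,5,0,6,4,2,0,3,6,4,0],[0,3,0,5,3,3,4,0,5,3,4,3,6,4,3,4,0,3,3],[2,2,5,1,3,4,1,1,2,6,4,0,4,4,2,4,4]⟩,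
  ⟨false,3,3,[0,4,0,3,3,0,2,4,0,5,6],[0,0,5,2,0,4,3,3,5,3,1,2,6,4,2,0,4,2,1],[3,3,0,2,2,4,3,4,0,6,4,2,0,4]⟩,
  ⟨false,3,3,[3,3,0,2,2,4,3,4,0,6,4,2,0,4],[2,0,3,0,5,3,4,3,0,3,3,6,4,0,5,1,5,0],[3,3,0,2,4,0,4,1,4,0,6]⟩,
  ⟨false,3,3,[2,1,2,2,1,2,5,2,2,6,4,7,4,2,5,5],[0,3,5,1,4,2,5,5,1,2,6,4,0,5,6,5,1],[4,3,4,4,3,4,0,2,4,1,6,4,2,0,3,6]⟩,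
  ⟨false,3,3,[1,5,0,2,2,4,3,4,6],[0,0,4,2,5,0,3,0,2,6,4,0,5,1,4],[0,3,5,1,4,2,0,2,2,5,1,2,6,4,1,3,1,4,1]⟩,
  ⟨false,3,3,[4,4,0,2,1,2,2,5,5,2,6],[1,1,5,2,4,4,2,5,6,4,0,5,3,0],[1,5,2,1,3,4,0,5,1,4,6,4,0,5,2,4,2]⟩,
  ⟨false,3,3,[1,5,2,1,3,4,0,5,1,4,6,4,0,5,2,4,2],[1,2,4,1,5,3,1,2,1,2,6,4,0,2,2,4,3,1],[1,2,5,1,2,4,2,4,2,6]⟩,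
  ⟨false,3,3,[0,3,3,1,3,4,4,3,3,4,6,4,0,3,1,4,0,6],[2,0,2,2,0,4,2,2,4,4,6,4,0,2,0],[5,1,1,1,2,5,3,6,4,3,5,3,3]⟩,
  ⟨false,3,3,[5,1,1,1,2,5,3,6,4,3,5,3,3],[2,1,4,1,1,2,4,3,3,6,4,0,5,6,4,1,1],[2,0,5,3,1,3,4,3,0,3,5,5,6,4,2,2,1,5,2]⟩,
  ⟨false,3,3,[1,2,2,4,2,4,3,5,0,3,6,4,0,3,6,4,2,6],[2,5,0,2,5,2,5,5,0,3,5,6,5,2,1,4,0,5],[4,2,2,5,0,2,4,2,6]⟩,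
  ⟨false,2,2,[5,3,0,4,3,5,3,0,3,6,5,3,1,2],[0,3,0,4,3,4,3,5,6,4,0,2,2,4,4],[1,3,4,0,5,3,1,5,2,6,5,2,2,1,4,2]⟩,
  ⟨false,4,4,[2,1,4,2,4,2,0,4,0,4,6,4,1,6,4,0,3,5],[1,5,5,2,1,3,3,1,4,3,6,4,2,6,4],[1,5,3,0,4,2,4,2,5,1,2,6,4,0,7,4,0,2,1]⟩,
  ⟨false,4,3,[2,1,4,4,1,2,1,3,4,6],[4,0,2,0,3,4,4,2,0,6,5,0,4,1,4],[2,0,4,2,2,4,1,3,4,3,3,0,6,4,1,6,5,0,6,4]⟩,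
  ⟨false,3,4,[2,0,4,2,2,4,1,3,4,3,3,0,6,4,1,6,5,0,6,4],[1,2,2,1,3,5,2,4,3,3,6,4,1,5,7,5,5],[2,0,4,0,2,0,3,4,4,6]⟩,
  ⟨false,3,3,[2,4,2,1,3,3,1,6],[0,2,0,4,0,5,0,2,0,6,4,1,2,4,2,7],[0,4,3,0,3,3,5,1,5,3,6,4,2,0,3,6,4,0]⟩,
  ⟨false,4,4,[1,4,1,4,2,5,2,1,5,3,3,6],[1,2,5,0,2,2,1,2,2,1,6,4,0,3,4,4,6,4,6],[3,5,3,0,4,2,0,4,3,3,6,4,1,6,4,0,3,5]⟩,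
  ⟨false,2,2,[0,2,0,4,1,4,2,0,2,2,6,4,3,0,4,2,7],[0,4,4,2,0,3,6,4,2,1,3,7],[3,3,0,5,1,3,1,2,1,6,4,3,0,4,7]⟩,
  ⟨false,3,3,[3,0,4,3,0,2,0,5,0,2,6],[0,5,2,4,3,4,0,0,0,4,6,4,2,5,2,1,5],[0,3,4,0,3,3,4,1,2,2,4,6,4,1,3,4,2,0,6]⟩,
  ⟨false,3,3,[0,2,1,3,5,0,3,3,1,3,4,3,4,6,5,0,3,1,4,0],[0,0,2,2,0,3,5,3,3,5,2,6,4,2,2,4,0,6],[5,2,0,4,3,3,0,4,4,3,6,4,1,2]⟩,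
  ⟨false,2,4,[4,3,1,2,1,2,2,1,6,5,2,5,1,3,5],[3,0,4,2,5,5,1,2,1,3,6,4,1,2,4,2,2,6],[4,1,5,5,3,4,3,1,5,6,4,3,3,0,7,4]⟩,
  ⟨false,4,2,[4,1,5,5,3,4,3,1,5,6,4,3,3,0,7,4],[1,2,4,1,5,2,2,1,2,4,1,6,4,1,2,4,1,6,4,0],[4,0,2,2,1,2,6,4,2,0,2,2,5,1]⟩,
  ⟨false,4,4,[0,2,4,1,4,2,4,1,1,2,6,4,2,6,5,5,0,7],[0,4,4,3,5,1,4,1,6,5,2,2,1],[3,4,2,5,5,0,2,2,6,4,3,0]⟩,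
  ⟨false,4,4,[2,4,4,2,0,3,1,4,4,6,4,1,4,1,4,2],[1,2,2,4,3,5,2,1,2,4,6,4,2,7,5,1,2,5],[3,0,2,0,2,5,3,4,1,4,6,4,2,5,2,1,3]⟩]

/-- reasons -/
def why : List Why := [
  .defn,
  .rev 0,
  .defn,
  .rev 2,
  .defn,
  .rev 4,
  .defn,
  .rev 6,
  .loop ⟨0,false,5,6,13,0,[],[⟨0,[],[]⟩],[⟨0,[0,0,3,3,0,2,2],[]⟩]⟩,
  .loop ⟨1,false,8,20,29,0,[],[⟨0,[],[]⟩],[⟨0,[4,3,1,2,2,4,0,2,0,4,6,4,1,2,4,1,6,4],[]⟩]⟩,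
  .loop ⟨2,false,0,21,25,0,[],[⟨0,[1,1],[]⟩,⟨2,[5,5,5,5,5,5],[]⟩],[⟨0,[3,5,3,1,5,2,0,6,4,2,0,3,6,4,0],[]⟩,⟨2,[5,5,5,5,5,5],[]⟩]⟩,
  .loop ⟨2,false,2,21,25,0,[],[⟨0,[1,1],[]⟩,⟨6,[5,0,0,7,5],[6,0,0,7]⟩],[⟨0,[6],[]⟩,⟨6,[5,6,0,6],[7,1]⟩]⟩,
  .loop ⟨3,false,0,42,41,0,[],[⟨0,[],[]⟩,⟨6,[0,0,0,7,5],[6,0,0,7]⟩],[⟨0,[5,5,0,3,0,3,3,0,6,4,0,5,3,5,1,6],[]⟩,⟨6,[0,0,0,7,5],[6,0,0,7]⟩]⟩,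
  .loop ⟨3,false,22,42,41,0,[],[⟨0,[],[]⟩,⟨2,[7,1,5,5,6,3,5],[1,2,5,7,1]⟩],[⟨0,[3,5,3,1,5,2,0,6,4,2,1,3,7],[]⟩,⟨2,[2,1,6,5,0,7,6],[2,0,3,4]⟩]⟩,
  .loop ⟨3,false,42,41,42,0,[],[⟨0,[1,1],[]⟩,⟨6,[5,5,7,0,6],[6]⟩],[⟨0,[3,5,0,3,3,5,3,4,1,2,1,6,4,0,3,1,5,7],[]⟩,⟨6,[5,5,7,0,6],[6]⟩]⟩,
  .loop ⟨4,false,0,23,20,0,[],[⟨0,[],[]⟩,⟨4,[],[]⟩],[⟨0,[3,0,2,0,2,5,1,5,0,5,6,4,3,5,0,4],[]⟩,⟨4,[],[]⟩]⟩,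
  .loop ⟨4,false,3,23,20,0,[],[⟨0,[],[]⟩,⟨4,[2,6,7,6,2,7,5],[1,3,2,2]⟩],[⟨0,[1,1,3,6],[]⟩,⟨4,[1,2,7,3,5,2,7,5],[2,7,0,2,6,1,5]⟩]⟩,
  .loop ⟨2,false,0,21,24,1,[3,3,0],[⟨8,[7,6,5],[7,6,5]⟩,⟨4,[5,5,5,5,7,6,5],[7,6,5]⟩],[⟨6,[7,5,6,1,1,1,7],[0,4,7,1]⟩]⟩,
  .rev 17,
  .loop ⟨2,true,43,25,21,1,[2],[⟨8,[5,6,7],[]⟩,⟨4,[7,6,5],[]⟩],[⟨6,[5,7,0,6],[5,3,0,2]⟩,⟨18,[],[5,5,7,5]⟩]⟩,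
  .loop ⟨3,false,0,42,40,1,[2,2],[⟨8,[5,5,6,7,5,6],[7]⟩,⟨6,[5,2,0,5],[0,5,0,3,2]⟩],[⟨4,[2,3,5,5,7,1,5],[1,7,2,4,6,5,7]⟩]⟩,
  .rev 20,
  .loop ⟨3,false,42,41,42,1,[3,3,0],[⟨8,[7,6,5],[7,6,5]⟩,⟨6,[1,5,7,6,2],[7,5,3]⟩],[⟨4,[4,5,2,6,5,2],[0,7,6,5,3,0,1]⟩,⟨21,[],[2,5,0,6,2,1]⟩]⟩,
  .loop ⟨3,false,64,41,42,1,[3,3],[⟨8,[7,6,5],[7,6]⟩,⟨4,[0,7,3,5,4,6,7,5,7],[0,0,6,0,0,2]⟩],[⟨6,[5,5,2,6,4,7,5,6],[4,5,2,0]⟩,⟨20,[14,14,14,22,14],[0,7,5,2]⟩]⟩,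
  .loop ⟨4,false,0,23,19,1,[2,2],[⟨8,[5,5,6,7,5,6],[7]⟩,⟨4,[5,5,5,5,5,5],[7,6]⟩],[⟨4,[6,7,0,5,6,3,5,7,5],[0,0,1,7,0,5]⟩]⟩,
  .loop ⟨4,true,19,23,19,1,[2],[⟨8,[5,6,7],[]⟩,⟨2,[5,3,6,1,6,5,7],[3,2,7,0,0]⟩],[⟨2,[5,5,5,5,5,5],[]⟩]⟩,
  .loop ⟨0,false,5,6,13,1,[2,5,2,5,0,2,2,1,2,5,5,6,4,2,1,4,0],[⟨2,[7,1,2,5,6,4,7],[2,1]⟩],[⟨4,[4,4,7,1,2],[3,3,2,1]⟩]⟩,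
  .rev 26,
  .loop ⟨1,false,8,20,29,1,[1,5,1,4,0,2,1,5,3,1,6,4,0,2,0,4,4,3],[⟨2,[7,3,5,7,6,1],[1,6,3,3]⟩],[⟨4,[6,5,2,4,5,5,5,7],[1,5,4,7,6,3]⟩]⟩,
  .rev 28,
  .loop ⟨1,false,28,21,28,1,[0,0,2,0,2,6,5,3,5,1,3],[⟨2,[6,7,5],[0,7,5,0,6]⟩],[⟨6,[2,2,6,0,5,5],[1,3,0,6,7]⟩]⟩,
  .rev 30,
  .loop ⟨2,false,2,21,24,1,[0,0,0,6,4,0,4,1,4,0],[⟨2,[5,5,5,5,5,5,6],[2,6,7,0,7]⟩,⟨30,[10,10,13,10,10,13,10,13,10,13,10,10,13,13,10,10,13],[0,3,6,5,3,2,7,5]⟩],[⟨4,[1,5,6,7,3,5,5,7,2],[2,7,2,5,5,6]⟩]⟩,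
  .rev 32,
  .loop ⟨2,false,21,25,20,1,[1,5,1,4,0,2,1,5,3,1,6,4,0,2,0,4,4,3],[⟨2,[7,3,5,7,6,1],[1,6,3,3]⟩,⟨30,[13,10,13,10,13,10,10,13,13,10,10,13,13,10,13,13,10],[0,4,5,2,7,3,5]⟩],[⟨4,[5,7,5,3,5,0,6,5,7],[0,1,5,2,7]⟩]⟩,
  .rev 34,
  .loop ⟨2,false,23,23,22,1,[1,3,3,1,2,1,6,4,0,2,1,3],[⟨2,[5,5,5,7,6,5],[1,1,6]⟩],[⟨6,[5,5,7,5,6],[5,6]⟩,⟨32,[12,22,14,12,22,12,22,22],[6,3,4,5,6,3]⟩]⟩,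
  .rev 36,
  .loop ⟨2,true,22,21,24,1,[0,2,5,1,3,1,3,4,3,5,6,4,0,5,1,7],[⟨2,[7,5,6,7,2,5,6,7,3],[2,6,0,6]⟩,⟨30,[13,13,10,13,10,10,13,10,10,13,10,13,10,10,13],[6,3,2,6,1,7,5]⟩],[⟨4,[0,4,5,3],[1,6,1,7,6,5]⟩]⟩,
  .rev 38,
  .loop ⟨2,true,43,25,20,1,[4,3,0,3,3,5,1,5,3,3,6,4,3,4,1,2,5],[⟨2,[5,6,0,7,0,7,6,5],[1,1,3,4,7]⟩,⟨36,[10,10,13,10,13,10,13,10,10,13,10],[4,4,5,0,0]⟩],[⟨4,[3,2,6,5,3,6,7],[7,6,1,2,7]⟩]⟩,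
  .rev 40,
  .loop ⟨3,false,22,42,40,1,[1,3,5,0,2,0,3,1,4,0,6,4,1,5,2,2,5,2],[⟨2,[5,5,5,2,6,7,6,5,3,6],[1,5,2,4,7]⟩,⟨36,[13,13,10,13,10,13,10,13,13,10,13,10,13],[1,0,1,1,6,0,7]⟩],[⟨4,[6,3,5,7,5,3,6,5],[0,0,3,2,7,5,6]⟩]⟩,
  .loop ⟨3,false,42,41,41,1,[2,2,0,3,1,3,6,4,1,3,4,4,2,4],[⟨2,[5,5,6,7,6],[1,0,5,7,1]⟩,⟨30,[10,13,13,10,13,10,10,13],[0,1,5,7,0,7,5,7,6]⟩],[⟨4,[5,2,5,0,6,7,5],[2,7,1,6,5]⟩]⟩,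
  .rev 43,
  .loop ⟨3,false,64,19,63,1,[2,5,1,4,2,5,2,5,2,1,6,4,2,5,0,4,7],[⟨2,[5,7,0,5,6,5,0,7,5],[0,2,5,3,4]⟩],[⟨4,[0,1,6,1,5,6,1,7],[3,5,4,5,5]⟩,⟨44,[16,19,15,23],[3,5,5,6,3,5,7,6,5,7]⟩]⟩,
  .rev 45,
  .loop ⟨3,true,18,42,40,1,[0,0,0,3,6,4,2,0,5,1,4,0],[⟨2,[5,5,5],[0,1,2,5,0]⟩,⟨36,[10,13,10,13,10,13,10,13,10,13,10,13,10,13,10],[1,0,5,5,5,6,5,3,6]⟩],[⟨4,[5,2,5,7,1,2,6,7],[2,1,5,3,2]⟩]⟩,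
  .loop ⟨3,true,60,22,60,1,[1,3,5,0,2,2,4,0,3,6,4,3,5,1,5,6],[⟨2,[3,7,2,4,5],[0,2,2,5]⟩],[⟨4,[6,5,3,6,5,7,5],[1,7,0,6,4,7]⟩,⟨21,[16,23,16,15,15,15],[7,3,4,5,3,2]⟩]⟩,
  .rev 48,
  .loop ⟨4,true,16,23,19,1,[1,3,3,1,3,6,4,0,5,3,1,4,2],[⟨2,[],[0,6,3,7]⟩,⟨30,[10,13,10,10,13,10,13,10,13,10,10,13,10,13,13,10,13,13,10],[5,3,0,7,0,0]⟩],[⟨6,[7,1,6,2,5,6,5,0],[6,0,7]⟩]⟩,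
  .loop ⟨0,false,5,6,13,1,[2,2,6,4,2,4,6],[⟨4,[0,5,7,6,1,1,6,2],[2,7,2,6,0,1,5]⟩],[⟨4,[2,6,1,5,5,5,3,7],[0,7,0,6,1,5,3]⟩]⟩,
  .loop ⟨2,false,2,21,24,1,[5,5,3,4,4,6,5,3,4,0],[⟨4,[0,5,6,0,2,5,7,6],[3,4,6,7,2,6,5]⟩,⟨33,[15,23,23,19,23,23],[5,4,5,6,0,7]⟩],[⟨4,[5,7,5,6,7],[3,4,5,2,6]⟩]⟩,
  .rev 52,
  .loop ⟨2,true,22,2,43,1,[0,2,5,5,3,3,0,2,6,4,0,4,0,3,5],[⟨4,[0,5,7,6,5,3],[7,1,0,1,6]⟩],[⟨4,[0,6,0,5,5,0,5,6],[2,1,4,6,5]⟩,⟨47,[23,15,16,16],[7,0,2,1,6,2]⟩]⟩,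
  .rev 54,
  .loop ⟨3,false,42,41,41,1,[0,3,3,0,2,0,3,6,4,0,4,3,0,4,0],[⟨4,[],[1,3,7,3,5]⟩,⟨47,[23,16,23,15,23],[0,2,7,5,6,3,5,5]⟩],[⟨4,[0,6,1,3,7,5,6,5],[3,0]⟩]⟩,
  .loop ⟨4,false,0,3,39,1,[3,3,0,6,4,4,2,2,4],[⟨4,[5,5,7,6,5],[2,3,3]⟩],[⟨6,[0,5,6,4,7,3,7,5],[5,6,2,4,5]⟩,⟨32,[14,22,12,11,12,11],[6,5,2,5,6,3,6,5]⟩]⟩,
  .loop ⟨4,false,23,3,39,1,[0,0,0,0,6,5,2,5,0,4],[⟨4,[6,7,6],[1,5,2,2,3,6]⟩],[⟨4,[1,6,2,5,5,7,6,3,5,6],[2,5,7,6,5]⟩,⟨47,[16,16,19,19,16],[7,1,5,6,1,5,5]⟩]⟩,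
  .rev 58,
  .loop ⟨4,true,19,20,22,1,[2,0,3,3,0,6,4,1,5,0,5,7],[⟨4,[0,1,7,5,2,0,5],[1,7,4,6,5,3,3]⟩],[⟨4,[7,5],[3,5,2,4,7]⟩,⟨59,[15,23,15,15,15],[0,3,5,3,3,7,5]⟩]⟩,
  .rev 60,
  .loop ⟨4,true,39,20,22,1,[1,1,2,6,4,1,5,5,2],[⟨4,[5,5,5,6,5,7],[2,7,0,0,2]⟩,⟨59,[15,15,23,23,23],[3,5,0,5,5,3,7]⟩],[⟨4,[6,5,3,2,1,5],[0,7,1,2]⟩]⟩,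
  .loop ⟨4,true,42,20,22,1,[0,4,3,4,0,2,2,0,3,5,1,6,4,2,5,2,4,6,4],[⟨4,[5,5,7,6,5],[2,0,5,3,7,6]⟩,⟨37,[15,16,16,19,23],[0,5,2,6,0,4,6]⟩],[⟨2,[0,5,6,4,7,1,5,6,7],[1,7,0,0]⟩]⟩,
  .loop ⟨3,true,18,22,60,1,[2,1,3,3,4,2,4,0,3,5,6,4,4,3,6,5],[⟨6,[0,6,7,5,6,0,5,2,7],[2,4,5,0]⟩],[⟨4,[0,5,5,5,0,6,7,0,6],[0,3,4,7,3,3]⟩,⟨53,[16,23,16,15,15],[0,0,5,0,1,6]⟩]⟩,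
  .loop ⟨4,false,0,3,39,1,[2,1,3,4,0,3,4,3,0,3,1,6,4,6,5,5,2,5],[⟨6,[5,5,6,3,3,0,7,5],[0,7,1,3,4]⟩],[⟨4,[5,7,0,3,0,5],[0,6,7,0]⟩,⟨62,[19,23,19,15],[0,1,5,7,1,5,6,7]⟩]⟩,
  .rev 65,
  .loop ⟨2,false,2,21,24,1,[5,0,3,1,3,5,0,2,6,4,3,0,4,2,2,6],[⟨9,[0,7,5,3,5,7,1,5],[6,5,0,0,7,0,5,6]⟩,⟨4,[1,0,0,7,3],[2,5,7,3]⟩],[⟨4,[0,1,5,5,7,2,5],[0,7,2,2,6,7,5]⟩]⟩,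
  .loop ⟨2,true,24,21,24,1,[4,2,4,0,4,0,5,0,5,6,4,3,0,4,2,6,5],[⟨9,[2,3,3,7,6,5],[3,2,6,5,7,5]⟩,⟨6,[2,7,0,6,5,7,1],[7,1,4]⟩],[⟨6,[1,5,5,0,2,2],[0,7,3,0]⟩]⟩,
  .loop ⟨1,false,8,41,8,2,[1,1,6,4,0,7,4,1],[⟨3,[13,10,13,10,13,10,10,13,10,13,10,13,13,10,13],[0,6,1,1]⟩,⟨2,[0,7,5,7,3,5,7],[0,1,3,3,2,5]⟩],[]⟩,
  .loop ⟨2,false,21,2,43,2,[1,5,3,1,5,3,4,2,2],[⟨26,[10,10,13,10,13,10,13,10,13,10,13,10,10,13,10,13,10,13],[0,5,7,6,2,5,7,3]⟩],[⟨36,[13,10,10,13,10,13,10,13,10,10,13,10,13,10,13,10,13,10,13,13,10,13,10],[7,5,6,2,5,6,7,3,7]⟩,⟨55,[15,19,23,19,23],[5,7,0,0,4,6]⟩]⟩,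
  .loop ⟨3,false,64,19,63,2,[4,0,2,2,4,0,2],[⟨26,[10,13,10,13,10,13,10,13,10,13,10,13,10,10,13,10,13,10,10],[0,7,5,0,6,4,7,2]⟩],[⟨63,[10,13,10,13,10,13,10,10,13,13,10,10],[5,2,0,7,6,3]⟩,⟨36,[10,10,13,13,10,10,13,13,10,10,13,10,13,10,13,13],[1,5,0,6,0,7,3]⟩]⟩,
  .loop ⟨1,false,8,0,49,2,[4,3,1,2,1,2,2,1,6,5,2,5,1,3,5],[],[⟨28,[13,13,10,13,10,10,13,10,10],[0,1,5,7,5]⟩,⟨17,[15,15],[0,5,6,1,5,5,7,5,6]⟩]⟩,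
  .rev 72,
  .loop ⟨2,false,21,2,43,2,[4,4,2,2,1,3,1,6,4,1,5,3,5],[⟨72,[13,13,10,13,10,10,13,10],[2,5,0,7,5,4,6,7]⟩],[⟨36,[10,13,13,10,13,10,13,10,10,13,10,13,10,13,10,10],[0,5,7,6,5,7,3,7,2]⟩,⟨44,[23,19,15,23,23],[2,7,0,5,6,7,2,5,7]⟩]⟩,
  .loop ⟨2,true,45,25,20,2,[4,4,1,2,1,5,1,6,4,6],[⟨28,[13,10,13,10,13,10,10,13,10,13,10,13,13,10,13,13,10,13,10,13,10,10,13,10],[6,3,3,0,5,7]⟩,⟨44,[16,23,15,16],[4,5,5,2,7,6,1,5,7]⟩],[⟨45,[10,13,10,10,13,10,13,10,13,10,13,10,10,13,13,10,13,13,10,10],[5,6,2,6,3,6,7,6,5]⟩]⟩]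

theorem facts_part0 : factsOK W facts why 0 26 = true := by decide +kernel

theorem facts_part1 : factsOK W facts why 26 25 = true := by decide +kernel

theorem facts_part2 : factsOK W facts why 51 25 = true := by decide +kernel

end CfsgLib.Sporadic.LyCoset
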