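import Cfsg.Agent.Lib.Sporadic.LyCoset.Chain
import Cfsg.Agent.Lib.Sporadic.LyCoset.Data

set_option autoImplicit false
set_option maxRecDepth 20000
set_option Elab.async false

/-! Stabilisers of the representatives: generators, orbit chains (owner: helper25). -/

namespace CfsgLib.Sporadic.LyCoset

/-- stabilising facts of a representative -/
def stabIdx : List (List ℕ) := [[], [], [10, 13], [15, 16, 19, 23], [11, 12, 14, 22]]

/-- Generators of the stabiliser of a representative. -/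
noncomputable def genW (k : ℕ) : List (List ℕ) :=
  cond (Nat.beq k 1) mGen ((stabIdx.getD k []).map fun q => ((facts[q]?).elim [] fun e => e.a))

/-- A signed generator. -/
noncomputable def letterW (k i : ℕ) : List ℕ :=
  cond (Nat.beq (i % 2) 0) ((genW k).getD (i / 2) []) (wInv ((genW k).getD (i / 2) []))

/-- orbit data: base, generators as signed words, tree -/
def stabData : List (List (ℕ × List (List ℕ) × List (ℕ × ℕ))) := [[],
  [(262144, [[0], [2], [4], [6], [8], [10], [12], [14]], [(5, 0), (6, 0), (7, 0), (5, 1), (6, 1), (5, 2), (7, 2), (5, 3), (6, 3), (6, 4), (7, 4), (5, 5), (5, 7), (6, 7), (6, 8), (7, 8), (5, 9), (7, 10), (5, 11), (6, 11), (7, 13), (6, 16), (7, 17)]),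
    (32768, [[0], [2], [4], [6], [10, 10, 12, 6, 13, 11, 11], [10, 10, 0, 11, 11], [12, 14, 12, 2, 13, 15, 13], [10, 4, 11], [10, 14, 13], [12, 4, 13]], [(8, 0), (8, 1), (8, 2)]),
    (4096, [[0], [2], [4], [6]], [(0, 0), (1, 0), (0, 1), (1, 1), (1, 2), (0, 3), (1, 3), (1, 4), (1, 5), (0, 6), (1, 6), (1, 7), (1, 8), (1, 9), (1, 10), (1, 11), (1, 12), (1, 13), (1, 15), (1, 16), (1, 17), (1, 19), (1, 20), (1, 22)]),
    (512, [[4, 1], [6, 1], [0, 4, 1, 1]], [(0, 0), (1, 0), (0, 1), (1, 2)]),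
    (64, [[4, 1, 6, 1], [0, 4, 1, 1, 0, 5]], [(0, 0), (0, 1), (0, 2), (0, 3)]),
    (8, [[0, 4, 1, 1, 0, 5]], [(0, 0), (0, 1), (0, 2), (0, 3)])],
  [(16448, [[0], [2]], [(0, 0), (1, 0), (0, 1), (1, 1), (0, 2), (1, 2), (1, 3), (0, 4), (1, 4), (1, 5), (0, 6), (0, 7), (1, 7), (0, 8), (1, 8), (0, 10), (1, 10), (0, 11), (1, 11), (0, 12), (1, 12), (0, 13), (1, 14), (0, 15), (1, 15), (0, 17), (1, 18), (0, 19), (1, 19), (1, 20), (1, 21), (1, 22), (1, 23), (0, 24), (1, 24), (0, 25), (1, 26), (1, 27), (0, 28), (1, 28), (0, 29), (0, 32), (1, 32), (0, 33), (1, 34), (0, 35), (0, 37), (1, 37), (0, 38), (1, 39), (0, 40), (0, 46), (1, 46), (0, 51), (1, 51)]),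
    (4096, [[0, 2, 2, 0, 3], [0, 0, 2, 0, 2, 0, 3, 1, 3]], [(0, 0), (1, 0), (0, 1), (1, 1), (0, 2), (1, 2), (0, 3), (1, 3), (0, 4), (1, 4), (0, 5), (1, 5), (1, 6), (1, 8), (1, 9), (1, 10), (0, 11), (1, 12), (1, 13), (1, 14), (1, 15), (1, 16), (1, 17), (1, 19), (1, 20), (1, 21)]),
    (262144, [[0, 0, 2, 0, 2, 0, 3, 1, 3, 0, 2, 2, 0, 3, 0, 2, 2, 0, 3, 0, 0, 2, 0, 2, 0, 3, 1, 3, 2, 1, 3, 3, 1]], [(0, 0), (0, 1), (0, 2)])],
  [(12800, [[0], [2], [4], [6]], [(0, 0), (1, 0), (2, 0), (3, 0), (1, 1), (2, 1), (3, 1), (0, 2), (3, 2), (0, 3), (1, 3), (3, 3), (0, 4), (1, 4), (2, 4), (3, 4), (0, 5), (1, 5), (2, 5), (3, 5), (2, 6), (3, 6), (0, 7), (1, 7), (2, 7), (3, 7), (0, 8), (1, 8), (3, 8), (0, 9), (1, 9), (2, 9), (3, 9), (1, 10), (0, 11), (3, 11), (0, 12), (1, 12), (2, 12), (3, 12), (1, 13), (2, 13), (3, 13), (0, 14), (1, 14), (2, 14), (3, 14), (0, 15), (2, 15), (3, 15), (0, 16), (3, 16), (0, 17), (1, 17), (2,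 17), (3, 17), (2, 18), (3, 18), (1, 19), (2, 19), (1, 20), (2, 20), (3, 20), (1, 21), (1, 22), (2, 22), (3, 22), (0, 23), (1, 23), (2, 23), (3, 23), (0, 24), (2, 24), (3, 24), (0, 25), (1, 25), (2, 25), (3, 25), (1, 26), (3, 26), (0, 27), (3, 27), (0, 28), (2, 28), (3, 28), (0, 29), (1, 29), (2, 29), (3, 30), (0, 31), (1, 31), (2, 31), (1, 32), (2, 32), (0, 33), (2, 33), (3, 33), (0, 34), (1, 35), (3, 36), (1, 37), (3, 37), (2, 39), (2, 41), (3, 41), (3, 44), (0, 45), (3, 46), (0, 49), (1, 50), (1, 51), (2, 53), (2, 55), (2, 58), (0, 59), (2, 59), (3, 59), (2, 61), (1, 65), (2, 68), (2, 69), (3, 70), (2, 72), (1, 81), (2, 87)]),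
    (4096, [[4, 4], [0, 0, 5]], [(1, 0)]),
    (262144, [[4, 4]], [(0, 0), (0, 1), (0, 2)])],
  [(262144, [[0], [2], [4], [6]], [(0, 0), (1, 0), (2, 0), (3, 0), (1, 1), (2, 1), (3, 1), (2, 2), (1, 3), (3, 3), (0, 4), (1, 4), (2, 4), (3, 4), (0, 5), (2, 5), (3, 5), (3, 6), (2, 7), (2, 10), (3, 13), (2, 14), (3, 14)]),
    (8704, [[2, 2], [2, 0, 7, 1]], [(1, 0), (1, 1), (1, 2), (1, 3)]),
    (32768, [[2, 2], [2, 0, 7, 1, 2, 2, 0, 6, 1, 3], [2, 0, 7, 1, 2, 0, 7, 1, 2, 0, 7, 1, 2, 0, 7, 1, 2, 0, 7, 1]], [(0, 0), (1, 0), (2, 0), (0, 1), (1, 1), (2, 1), (0, 2), (2, 2), (0, 3), (2, 3), (0, 4), (1, 4), (2, 4), (2, 5), (2, 6), (0, 8), (2, 8), (1, 9), (2, 9), (2, 13), (2, 14), (2, 16), (2, 18)])]]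

/-- The levels. -/
noncomputable def stabLvls (k : ℕ) : List Lvl :=
  (stabData.getD k []).map fun d => ⟨d.1, d.2.1.map (fun h => h.flatMap (letterW k)), d.2.2⟩

/-- The orders reached. -/
def stabOrders : List ℕ := [0, 300000, 6048, 1008, 2880]

/-- The check for one representative. -/
noncomputable def stabOK (k : ℕ) : Bool :=
  lvlsOK (stabLvls k) && ((gensOf (stabLvls k)).all isN && ((genW k).all isN &&
    (Nat.beq (orbitProd (stabLvls k)) (stabOrders.getD k 0) &&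
      (stabIdx.getD k []).all fun q => (facts[q]?).elim false fun e => e.stab && (Nat.beq e.i k && isN e.a))))

theorem stab_one : stabOK 1 = true := by decide +kernel

theorem stab_two : stabOK 2 = true := by decide +kernel

theorem stab_three : stabOK 3 = true := by decide +kernel

theorem stab_four : stabOK 4 = true := by decide +kernel

end CfsgLib.Sporadic.LyCoset
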