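import Cfsg.Agent.Lib.Sporadic.LyCoset.Vec
import Cfsg.Agent.Lib.Sporadic.LyCoset.TabData

/-!
# States: three unordered pairs of lines; checked steps between them (owner: helper25)
-/

set_option autoImplicit false
set_option maxRecDepth 20000

namespace CfsgLib.Sporadic.LyCoset

open CfsgLib.Sporadic.LyGTwo
open CfsgLib.Sporadic.LyRep (strict strict_eq)

/-- A state, six compact vectors of 21 bits. -/
noncomputable def tab (t : ℕ) : ℕ := tabQ.get t

/-- A compact vector of a packed state. -/
noncomputable def cv (p k : ℕ) : ℕ := Nat.land (Nat.shiftRight p (21 * k)) 2097151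

/-- A pair of a packed state. -/
noncomputable def pairOf (p j : ℕ) : Finset V7 := pairSet (decC (cv p (2 * j))) (decC (cv p (2 * j + 1)))

/-- The pairs of a packed state. -/
noncomputable def stOf (p : ℕ) : Finset (Finset V7) := {pairOf p 0, pairOf p 1, pairOf p 2}

/-- One pair of an image. -/
noncomputable def pairOK (f : ℕ → ℕ) (px pt j h : ℕ) : Bool :=
  Nat.blt (Nat.land h 3) 3 && (Nat.ble 1 (Nat.land (Nat.shiftRight h 3) 7) &&
  (Nat.ble (Nat.land (Nat.shiftRight h 3) 7) 4 && (Nat.ble 1 (Nat.land (Nat.shiftRight h 6) 7) &&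
  (Nat.ble (Nat.land (Nat.shiftRight h 6) 7) 4 &&
  cond (Nat.beq (Nat.land (Nat.shiftRight h 2) 1) 0)
    (Nat.beq (f (cv px (2 * j))) (scl (Nat.land (Nat.shiftRight h 3) 7) (expC (cv pt (2 * Nat.land h 3)))) &&
      Nat.beq (f (cv px (2 * j + 1))) (scl (Nat.land (Nat.shiftRight h 6) 7) (expC (cv pt (2 * Nat.land h 3 + 1)))))
    (Nat.beq (f (cv px (2 * j))) (scl (Nat.land (Nat.shiftRight h 3) 7) (expC (cv pt (2 * Nat.land h 3 + 1)))) &&
      Nat.beq (f (cv px (2 * j + 1))) (scl (Nat.land (Nat.shiftRight h 6) 7) (expC (cv pt (2 * Nat.land h 3)))))))))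

/-- The three pairs of an image; a hint has nine bits for each. -/
noncomputable def pairsOK (f : ℕ → ℕ) (px pt h : ℕ) : Bool :=
  Nat.beq (Nat.lor (Nat.lor (Nat.shiftLeft 1 (Nat.land (Nat.land h 511) 3))
      (Nat.shiftLeft 1 (Nat.land (Nat.land (Nat.shiftRight h 9) 511) 3)))
      (Nat.shiftLeft 1 (Nat.land (Nat.land (Nat.shiftRight h 18) 511) 3))) 7 &&
    (pairOK f px pt 0 (Nat.land h 511) && (pairOK f px pt 1 (Nat.land (Nat.shiftRight h 9) 511) &&
      pairOK f px pt 2 (Nat.land (Nat.shiftRight h 18) 511)))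

/-- A packed step: target, source, generator, hint. -/
noncomputable def stepOK (rows : List (List (ℕ × ℕ))) (seen p : ℕ) : Bool :=
  Nat.testBit seen (Nat.land (Nat.shiftRight p 15) 32767) &&
  (Nat.blt (Nat.land p 32767) 19530 && (Nat.blt (Nat.land (Nat.shiftRight p 30) 7) rows.length &&
    strict (tab (Nat.land (Nat.shiftRight p 15) 32767)) fun px => strict (tab (Nat.land p 32767)) fun pt =>
      pairsOK (fun c => LyRep.red sevMask (colDot 7 (rows.getD (Nat.land (Nat.shiftRight p 30) 7) []) c)) px pt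
        (Nat.shiftRight p 33)))

/-- Steps in order, marking what is reached; zero on failure. -/
noncomputable def goSteps (rows : List (List (ℕ × ℕ))) (l : List ℕ) : ℕ → ℕ :=
  List.rec (motive := fun _ => ℕ → ℕ) (fun seen => seen)
    (fun p _ ih seen => cond (stepOK rows seen p) (strict (Nat.lor seen (Nat.shiftLeft 1 (Nat.land p 32767))) ih) 0) l

theorem pairOK_sound {f : ℕ → ℕ} {g : P4} (hf : ∀ c, f c = encV (vact (decC c) g)) {px pt j h : ℕ}
    (hh : pairOK f px pt j h = true) : Nat.land h 3 < 3 ∧ actU g (pairOf px j) = pairOf pt (Nat.land h 3) := by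
  simp only [pairOK, Bool.and_eq_true, Nat.blt_eq, Nat.ble_eq] at hh
  obtain ⟨hπ, ha1, ha4, hb1, hb4, hc⟩ := hh
  set a := Nat.land (Nat.shiftRight h 3) 7
  set b := Nat.land (Nat.shiftRight h 6) 7
  have ha : (a : ZMod 5) ≠ 0 := by
    intro e; rw [ZMod.natCast_eq_zero_iff] at e; exact absurd (Nat.le_of_dvd (by omega) e) (by omega)
  have hb : (b : ZMod 5) ≠ 0 := by
    intro e; rw [ZMod.natCast_eq_zero_iff] at e; exact absurd (Nat.le_of_dvd (by omega) e) (by omega)
  refine ⟨hπ, ?_⟩
  rw [pairOf, actU_pairSet, pairOf]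
  simp only [hf, expC_eq, scl_eq ha4, scl_eq hb4] at hc
  cases hs : Nat.beq (Nat.land (Nat.shiftRight h 2) 1) 0 with
  | true =>
    rw [hs, cond_true] at hc
    simp only [Bool.and_eq_true, Nat.beq_eq] at hc
    rw [encV_injective hc.1, encV_injective hc.2, pairSet_smul ha hb]
  | false =>
    rw [hs, cond_false] at hc
    simp only [Bool.and_eq_true, Nat.beq_eq] at hc
    rw [encV_injective hc.1, encV_injective hc.2, pairSet_smul ha hb, pairSet_comm]

theorem lor_three {a b c : ℕ} (ha : a < 3) (hb : b < 3) (hc : c < 3)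
    (h : Nat.lor (Nat.lor (Nat.shiftLeft 1 a) (Nat.shiftLeft 1 b)) (Nat.shiftLeft 1 c) = 7) :
    ∀ k < 3, k = a ∨ k = b ∨ k = c := by
  intro k hk
  interval_cases a <;> interval_cases b <;> interval_cases c <;> interval_cases k <;>
    first | omega | exact absurd h (by decide)

theorem pairsOK_sound {f : ℕ → ℕ} {g : P4} (hf : ∀ c, f c = encV (vact (decC c) g)) {px pt h : ℕ}
    (hh : pairsOK f px pt h = true) : actSt g (stOf px) = stOf pt := by
  simp only [pairsOK, Bool.and_eq_true, Nat.beq_eq] at hh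
  obtain ⟨hor, h0, h1, h2⟩ := hh
  obtain ⟨a0, e0⟩ := pairOK_sound hf h0
  obtain ⟨a1, e1⟩ := pairOK_sound hf h1
  obtain ⟨a2, e2⟩ := pairOK_sound hf h2
  have hall := lor_three a0 a1 a2 hor
  simp only [actSt, stOf, Finset.image_insert, Finset.image_singleton, e0, e1, e2]
  ext U
  simp only [Finset.mem_insert, Finset.mem_singleton]
  constructor
  · rintro (rfl | rfl | rfl)
    · interval_cases Nat.land (Nat.land h 511) 3 <;> simp
    · interval_cases Nat.land (Nat.land (Nat.shiftRight h 9) 511) 3 <;> simp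
    · interval_cases Nat.land (Nat.land (Nat.shiftRight h 18) 511) 3 <;> simp
  · rintro (rfl | rfl | rfl)
    · rcases hall 0 (by norm_num) with e | e | e <;> rw [← e] <;> simp
    · rcases hall 1 (by norm_num) with e | e | e <;> rw [← e] <;> simp
    · rcases hall 2 (by norm_num) with e | e | e <;> rw [← e] <;> simp

/-- What is marked satisfies the predicate. -/
def SeenOK (P : ℕ → Prop) (seen : ℕ) : Prop := ∀ t, Nat.testBit seen t = true → P t

theorem seenOK_zero (P : ℕ → Prop) : SeenOK P 0 := fun t ht => by simp at ht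

theorem seenOK_lor {P : ℕ → Prop} {seen t : ℕ} (h : SeenOK P seen) (ht : P t) :
    SeenOK P (Nat.lor seen (Nat.shiftLeft 1 t)) := by
  intro s hs
  rw [show Nat.lor seen (Nat.shiftLeft 1 t) = seen ||| 1 <<< t from rfl, Nat.one_shiftLeft, Nat.testBit_or,
    Bool.or_eq_true, Nat.testBit_two_pow, decide_eq_true_eq] at hs
  rcases hs with hs | rfl
  exacts [h s hs, ht]

theorem goSteps_sound {rows : List (List (ℕ × ℕ))} {P : ℕ → Prop}
    (hstep : ∀ g < rows.length, ∀ x t h, P x → t < 19530 →
      pairsOK (fun c => LyRep.red sevMask (colDot 7 (rows.getD g []) c)) (tab x) (tab t) h = true → P t) :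
    ∀ (l : List ℕ) (seen : ℕ), SeenOK P seen → SeenOK P (goSteps rows l seen)
  | [], _, h => h
  | p :: l, seen, h => by
    show SeenOK P (cond (stepOK rows seen p)
      (strict (Nat.lor seen (Nat.shiftLeft 1 (Nat.land p 32767))) (goSteps rows l)) 0)
    cases hp : stepOK rows seen p with
    | false => exact seenOK_zero P
    | true =>
      rw [cond_true, strict_eq]
      simp only [stepOK, strict_eq, Bool.and_eq_true, Nat.blt_eq] at hp
      obtain ⟨hx, ht, hg, hpairs⟩ := hp
      exact goSteps_sound hstep l _ (seenOK_lor h (hstep _ hg _ _ _ (h _ hx) ht hpairs))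

/-- Two numbers for a pair. -/
noncomputable def pairKey (p j : ℕ) : ℕ :=
  Nat.shiftLeft (expC (cv p (2 * j))) 168 + expC (cv p (2 * j + 1))

/-- A state in normal form, before the next. -/
noncomputable def stateOK (t : ℕ) : Bool :=
  strict (tab t) fun p =>
    canGo (cv p 0) 7 0 && (canGo (cv p 1) 7 0 && (canGo (cv p 2) 7 0 && (canGo (cv p 3) 7 0 &&
    (canGo (cv p 4) 7 0 && (canGo (cv p 5) 7 0 && (Nat.blt (expC (cv p 0)) (expC (cv p 1)) &&
    (Nat.blt (expC (cv p 2)) (expC (cv p 3)) && (Nat.blt (expC (cv p 4)) (expC (cv p 5)) &&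
    (Nat.blt (pairKey p 0) (pairKey p 1) && (Nat.blt (pairKey p 0) (pairKey p 2) &&
    (Nat.ble 19529 t || Nat.blt (pairKey p 0) (pairKey (tab (t + 1)) 0))))))))))))

theorem stOf_inj (h : ∀ t < 19530, stateOK t = true) {t t' : ℕ} (ht : t < 19530) (ht' : t' < 19530)
    (he : stOf (tab t) = stOf (tab t')) : t = t' := by
  have hmono : ∀ d t, t + d + 1 < 19530 → pairKey (tab t) 0 < pairKey (tab (t + d + 1)) 0 := by
    intro d
    induction d with
    | zero =>
      intro t hd
      have := h t (by omega)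
      simp only [stateOK, strict_eq, Bool.and_eq_true, Bool.or_eq_true, Nat.blt_eq, Nat.ble_eq] at this
      rcases this.2.2.2.2.2.2.2.2.2.2.2 with h' | h'
      · omega
      · exact h'
    | succ d ih =>
      intro t hd
      refine (ih t (by omega)).trans ?_
      have := h (t + d + 1) (by omega)
      simp only [stateOK, strict_eq, Bool.and_eq_true, Bool.or_eq_true, Nat.blt_eq, Nat.ble_eq] at this
      rcases this.2.2.2.2.2.2.2.2.2.2.2 with h' | h'
      · omega
      · exact h'
  have key : ∀ {t t'}, t < 19530 → t' < 19530 → stOf (tab t) = stOf (tab t') →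
      pairKey (tab t') 0 ≤ pairKey (tab t) 0 := by
    intro t t' ht ht' he
    have hm : pairOf (tab t) 0 ∈ stOf (tab t') := by rw [← he]; simp [stOf]
    have h1 := h t ht
    have h2 := h t' ht'
    simp only [stateOK, strict_eq, Bool.and_eq_true, Bool.or_eq_true, Nat.blt_eq] at h1 h2
    obtain ⟨c0, c1, -, -, -, -, l0, -⟩ := h1
    obtain ⟨d0, d1, d2, d3, d4, d5, m0, m1, m2, k1, k2, -⟩ := h2
    have can : ∀ {c}, canGo c 7 0 = true → Canon (decC c) := fun hc => canGo_sound rfl (fun j hj => absurd hj (by omega)) hc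
    simp only [expC_eq] at l0 m0 m1 m2
    simp only [stOf, Finset.mem_insert, Finset.mem_singleton] at hm
    rcases hm with hm | hm | hm <;> rw [pairOf, pairOf] at hm
    · obtain ⟨e0, e1⟩ := pairSet_inj (can c0) (can c1) (can d0) (can d1) l0 m0 hm
      simp only [pairKey, expC_eq, Nat.mul_zero, Nat.zero_add] at e0 e1 ⊢
      rw [e0, e1]
    · obtain ⟨e0, e1⟩ := pairSet_inj (can c0) (can c1) (can d2) (can d3) l0 m1 hm
      simp only [pairKey, expC_eq, Nat.mul_zero, Nat.zero_add, Nat.mul_one, show 1 + 1 = 2 from rfl, show 2 + 1 = 3 from rfl] at e0 e1 k1 ⊢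
      rw [e0, e1]; exact k1.le
    · obtain ⟨e0, e1⟩ := pairSet_inj (can c0) (can c1) (can d4) (can d5) l0 m2 hm
      simp only [pairKey, expC_eq, Nat.mul_zero, Nat.zero_add, show 2 * 2 = 4 from rfl, show 4 + 1 = 5 from rfl] at e0 e1 k2 ⊢
      rw [e0, e1]; exact k2.le
  have := le_antisymm (key ht ht' he) (key ht' ht he.symm)
  rcases lt_trichotomy t t' with hlt | heq | hgt
  · have := hmono (t' - t - 1) t (by omega)
    rw [show t + (t' - t - 1) + 1 = t' by omega] at this
    omega
  · exact heq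
  · have := hmono (t - t' - 1) t' (by omega)
    rw [show t' + (t - t' - 1) + 1 = t by omega] at this
    omega

end CfsgLib.Sporadic.LyCoset
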