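import Cfsg.Agent.Lib.Sporadic.LyCoset.Sound
import Cfsg.Agent.Lib.Sporadic.LyCoset.StabData
import Cfsg.Agent.Lib.Sporadic.LyCoset.States

/-!
# Stabilisers of the representatives and the reachable states (owner: helper25)
-/

set_option autoImplicit false
set_option maxRecDepth 20000

namespace CfsgLib.Sporadic.LyCoset

open Cfsg CfsgLib.Sporadic CfsgLib.Sporadic.LyGTwo
open CfsgLib.Sporadic.LyGroup (gl)

theorem facts_small : facts.all (fun e => Nat.blt e.i 5 && (Nat.blt e.k 5 &&
    (isN e.a && (isN e.l && isN e.m)))) = true := by decide +kernel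

theorem facts_get {e : Rec} (he : e ∈ facts) :
    e.i < 5 ∧ e.k < 5 ∧ isN e.a = true ∧ isN e.l = true ∧ isN e.m = true := by
  have := List.all_eq_true.1 facts_small e he
  simpa only [Bool.and_eq_true, Nat.blt_eq] using this

/-- A word as an element of the subgroup. -/
noncomputable def pw (w : List ℕ) : P4 := (w.map L).prod

theorem pw_append (u v : List ℕ) : pw (u ++ v) = pw u * pw v := by simp [pw]

theorem pw_wInv (w : List ℕ) : pw (wInv w) = (pw w)⁻¹ := PairEnum.prod_winv L_flp w

/-- The generated stabiliser. -/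
noncomputable def gensK (k : ℕ) : Subgroup P4 := Subgroup.closure {g | ∃ w ∈ genW k, g = pw w}

theorem pw_letterW_mem (k i : ℕ) : pw (letterW k i) ∈ gensK k := by
  have h : pw ((genW k).getD (i / 2) []) ∈ gensK k := by
    rcases Nat.lt_or_ge (i / 2) (genW k).length with h | h
    · rw [List.getD_eq_getElem _ _ h]
      exact Subgroup.subset_closure ⟨_, List.getElem_mem h, rfl⟩
    · rw [List.getD_eq_default _ _ h]
      exact one_mem _
  rw [letterW]
  cases Nat.beq (i % 2) 0
  · rw [cond_false, pw_wInv]; exact inv_mem h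
  · exact h

theorem dvd_gensK {k : ℕ} (h : stabOK k = true) : stabOrders.getD k 0 ∣ Nat.card (gensK k) := by
  simp only [stabOK, Bool.and_eq_true, Nat.beq_eq, List.all_eq_true] at h
  obtain ⟨hl, hw, -, he, -⟩ := h
  rw [← he]
  refine orbitProd_dvd (gensK k) hl (fun w hw' => isN_iff.1 (hw w hw')) fun w hw' => ?_
  suffices h : ∀ ls : List Lvl, (∀ l ∈ ls, ∀ v ∈ l.gens, pw v ∈ gensK k) → ∀ v ∈ gensOf ls, pw v ∈ gensK k by
    refine h _ (fun l hl v hv => ?_) w hw'
    simp only [stabLvls, List.mem_map] at hl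
    obtain ⟨d, -, rfl⟩ := hl
    obtain ⟨x, -, rfl⟩ := List.mem_map.1 hv
    clear hv
    induction x with
    | nil => exact one_mem _
    | cons i x ih => rw [List.flatMap_cons, pw_append]; exact mul_mem (pw_letterW_mem k i) ih
  intro ls
  induction ls with
  | nil => simp [gensOf]
  | cons l ls ih =>
    intro h v hv
    rcases List.mem_append.1 hv with hv | hv
    · exact h l List.mem_cons_self v hv
    · exact ih (fun m hm => h m (List.mem_cons_of_mem _ hm)) v hv

theorem card_gensK {k : ℕ} (h : stabOK k = true) : stabOrders.getD k 0 ≤ Nat.card (gensK k) :=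
  Nat.le_of_dvd Nat.card_pos (dvd_gensK h)

/-- The image of the four-letter group. -/
noncomputable def N0 : Subgroup Spor.Ly := toLy.range

theorem toLy_pw {w : List ℕ} (h : isN w = true) : toLy (pw w) = ev w := (ev_of_isN h).symm

theorem ev_mem {w : List ℕ} (h : isN w = true) : ev w ∈ N0 := ⟨pw w, toLy_pw h⟩

/-- A representative as a coset. -/
noncomputable def pt (k : ℕ) : Spor.Ly ⧸ N0 := ((ev (W k))⁻¹ : Spor.Ly)

/-- The stabiliser of a representative. -/
noncomputable def stabP (k : ℕ) : Subgroup P4 :=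
  (MulAction.stabilizer Spor.Ly (pt k)).comap toLy

theorem mem_stabP {k : ℕ} {g : P4} : g ∈ stabP k ↔ ev (W k) * toLy g * (ev (W k))⁻¹ ∈ N0 := by
  rw [stabP, Subgroup.mem_comap, MulAction.mem_stabilizer_iff, pt, MulAction.Quotient.smul_coe, smul_eq_mul,
    QuotientGroup.eq, ← inv_mem_iff]
  simp [mul_assoc]

theorem gensK_le {k : ℕ} (hk : k = 1 ∨ stabOK k = true) (hW : BaseW W)
    (hF : HoldsUpTo W facts facts.length) : gensK k ≤ stabP k := by
  rw [gensK, Subgroup.closure_le]
  rintro _ ⟨w, hw, rfl⟩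
  rw [SetLike.mem_coe, mem_stabP]
  by_cases h1 : k = 1
  · subst h1
    rw [genW, show Nat.beq 1 1 = true from rfl, cond_true] at hw
    obtain ⟨g, hg, hgw⟩ := List.getElem_of_mem hw
    have hg8 : g < 8 := hg
    obtain ⟨n1, n2, -⟩ := mw_phw (h := [g]) (by simp [hg8])
    have e1 : mw [g] = w := by
      show mGen.getD g [] ++ [] = w
      rw [List.getD_eq_getElem _ _ hg, hgw, List.append_nil]
    rw [e1] at n1
    have hz := Z_mw (h := [g]) (by simp [hg8])
    rw [e1] at hz
    rw [toLy_pw n1, hW.2, ev_cons, ev_nil, mul_one, show gl 8 = Z from rfl, hz, mul_inv_cancel_right]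
    exact ev_mem (by rw [isN_append, isN_append, n2]; rfl)
  · obtain hk := hk.resolve_left h1
    rw [genW, show Nat.beq k 1 = false from Bool.eq_false_iff.2 fun e => h1 (Nat.eq_of_beq_eq_true e), cond_false,
      List.mem_map] at hw
    obtain ⟨q, hq, rfl⟩ := hw
    simp only [stabOK, Bool.and_eq_true, List.all_eq_true] at hk
    obtain ⟨-, -, -, -, hfacts⟩ := hk
    have hq' := hfacts q hq
    cases he : facts[q]? with
    | none => rw [he] at hq'; simp at hq'
    | some e =>
      rw [he] at hq'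
      simp only [Option.elim, Bool.and_eq_true, Nat.beq_eq] at hq'
      obtain ⟨hs, hi, ha⟩ := hq'
      have hE := hF q e (List.getElem?_eq_some_iff.1 he).1 he
      rw [Holds, hs, cond_true, hi] at hE
      show ev (W k) * toLy (pw e.a) * _ ∈ N0
      rw [toLy_pw ha, hE, mul_inv_cancel_right]
      exact ev_mem (facts_get (List.mem_of_getElem? he)).2.2.2.1

/-- The state of an element. -/
noncomputable def stateOf (n : P4) : Finset (Finset V7) := actSt n⁻¹ (stOf (tab baseIdx))

theorem stateOf_mul_left (h n : P4) : stateOf (h * n) = actSt h⁻¹ (stateOf n) := by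
  rw [stateOf, stateOf, mul_inv_rev, actSt_mul]

/-- An element decomposed by an edge. -/
def Dec (k : ℕ) (n : P4) : Prop :=
  ∃ e ∈ facts, e.stab = false ∧ e.i = k ∧ ∃ h ∈ gensK k, n = h * pw e.a

/-- A state reached by a decomposed element. -/
def Reach (k t : ℕ) : Prop := t < 19530 ∧ ∃ n, Dec k n ∧ stateOf n = stOf (tab t)

/-- A checked root. -/
noncomputable def rootOK (k : ℕ) (r : ℕ × ℕ × ℕ) : Bool :=
  (facts[r.1]?).elim false fun e => !e.stab && (Nat.beq e.i k && (isN e.a && (Nat.blt r.2.1 19530 &&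
    pairsOK (fun c => vword (wInv e.a) (expC c)) (tab baseIdx) (tab r.2.1) r.2.2)))

/-- What the roots mark. -/
noncomputable def seenRoots (rs : List (ℕ × ℕ × ℕ)) : ℕ :=
  rs.foldr (fun r s => Nat.lor s (Nat.shiftLeft 1 r.2.1)) 0

theorem vact_pw_word {w : List ℕ} (hw : isN w = true) (c : ℕ) :
    vword w (expC c) = encV (vact (decC c) (pw w)) := by rw [expC_eq, pw, vact_word (isN_iff.1 hw)]

theorem seenRoots_sound {k : ℕ} : ∀ {rs : List (ℕ × ℕ × ℕ)}, rs.all (rootOK k) = true →
    SeenOK (Reach k) (seenRoots rs)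
  | [], _ => seenOK_zero _
  | r :: rs, h => by
    simp only [List.all_cons, Bool.and_eq_true] at h
    refine seenOK_lor (seenRoots_sound h.2) ?_
    have hr := h.1
    unfold rootOK at hr
    cases he : facts[r.1]? with
    | none => rw [he] at hr; simp at hr
    | some e =>
      rw [he] at hr
      simp only [Option.elim, Bool.and_eq_true, Bool.not_eq_true', Nat.beq_eq, Nat.blt_eq] at hr
      obtain ⟨hs, hi, ha, ht, hp⟩ := hr
      have hmem : e ∈ facts := List.mem_of_getElem? he
      refine ⟨ht, pw e.a, ⟨e, hmem, hs, hi, 1, one_mem _, (one_mul _).symm⟩, ?_⟩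
      exact pairsOK_sound (g := (pw e.a)⁻¹) (fun c => by rw [vact_pw_word (isN_wInv ha), pw_wInv]) hp

/-- Rows are the inverse generators. -/
noncomputable def rowsOKfor (k : ℕ) (rows : List (List (ℕ × ℕ))) : Bool :=
  (genW k).all isN && decide (rows = (genW k).map fun w =>
    List.ofFn fun i : Fin 7 => (vword (wInv w) (encV (unitV i)), 3 * i.val))

theorem step_sound {k : ℕ} {rows : List (List (ℕ × ℕ))} (hr : rowsOKfor k rows = true) :
    ∀ g < rows.length, ∀ x t h, Reach k x → t < 19530 →
      pairsOK (fun c => LyRep.red sevMask (colDot 7 (rows.getD g []) c)) (tab x) (tab t) h = true → Reach k t := by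
  rintro g hg x t h ⟨-, n, ⟨e, he, hs, hi, h', hh', rfl⟩, hn⟩ ht hp
  simp only [rowsOKfor, Bool.and_eq_true, decide_eq_true_eq] at hr
  obtain ⟨hN, hr⟩ := hr
  subst hr
  rw [List.length_map] at hg
  rw [List.getD_eq_getElem _ _ (by rwa [List.length_map]), List.getElem_map] at hp
  set w := (genW k)[g]
  have hw : isN w = true := List.all_eq_true.1 hN _ (List.getElem_mem hg)
  have hf : ∀ c, LyRep.red sevMask (colDot 7 (List.ofFn fun i : Fin 7 =>
      (vword (wInv w) (encV (unitV i)), 3 * i.val)) c) = encV (vact (decC c) (pw w)⁻¹) := by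
    intro c
    rw [← pw_wInv]
    refine clin_ofFn ((rho7 (pw (wInv w)) : (LyRep.Mat 7)ˣ) : LyRep.Mat 7) ?_ c
    refine congrArg List.ofFn (funext fun i => ?_)
    rw [pw, ← vact_word (isN_iff.1 (isN_wInv hw)), vact, unitV, Matrix.single_one_vecMul]
    rfl
  refine ⟨ht, pw w * (h' * pw e.a), ⟨e, he, hs, hi, pw w * h', mul_mem ?_ hh', by rw [mul_assoc]⟩, ?_⟩
  · exact Subgroup.subset_closure ⟨w, List.getElem_mem hg, rfl⟩
  · rw [stateOf_mul_left, hn]
    exact pairsOK_sound hf hp

end CfsgLib.Sporadic.LyCoset
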