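import Cfsg.Agent.Lib.Sporadic.LyCoset.Bound

/-!
# The index is exact once the order is divisible by enough primes (owner: helper25)
-/

set_option autoImplicit false
set_option maxRecDepth 20000

namespace CfsgLib.Sporadic.LyCoset

open Cfsg CfsgLib.Sporadic CfsgLib.Sporadic.LyGTwo

/-- The products of powers of listed primes. -/
def divList : List (ℕ × ℕ) → List ℕ
  | [] => [1]
  | (p, e) :: l => (List.range (e + 1)).flatMap fun a => (divList l).map fun d => p ^ a * d

theorem mem_divList : ∀ {l : List (ℕ × ℕ)}, (∀ x ∈ l, x.1.Prime) → ∀ {r : ℕ},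
    r ∣ (l.map fun x => x.1 ^ x.2).prod → r ∈ divList l
  | [], _, r, h => by simpa [divList] using h
  | (p, e) :: l, hp, r, h => by
    rw [List.map_cons, List.prod_cons, Nat.dvd_mul] at h
    obtain ⟨x, y, hx, hy, rfl⟩ := h
    obtain ⟨a, ha, rfl⟩ := (Nat.dvd_prime_pow (hp _ List.mem_cons_self)).1 hx
    simp only [divList, List.mem_flatMap, List.mem_range, List.mem_map]
    exact ⟨a, by omega, y, mem_divList (fun z hz => hp z (List.mem_cons_of_mem _ hz)) hy, rfl⟩

/-- The possible sizes of the first orbit. -/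
def sizes1 : List ℕ := 0 :: divList [(2, 1), (3, 2), (5, 1), (7, 1), (31, 1)]
/-- The possible sizes of the second orbit. -/
def sizes2 : List ℕ := 0 :: divList [(2, 1), (5, 6), (31, 1)]
/-- The possible sizes of the third orbit. -/
def sizes3 : List ℕ := 0 :: divList [(2, 2), (3, 1), (5, 6), (31, 1)]

/-- No proper combination gives this total. -/
noncomputable def comboOK (T : ℕ) : Bool :=
  sizes1.all fun a => sizes2.all fun b => sizes3.all fun c =>
    Nat.blt T (1 + a + b + c) || (!(Nat.beq (T - (1 + a + b + c)) 0) &&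
      !(Nat.beq (2034375 % (T - (1 + a + b + c))) 0))

theorem combo_one : comboOK 2208789 = true := by decide +kernel

theorem combo_two : comboOK 4417578 = true := by decide +kernel

theorem combo_three : comboOK 6626367 = true := by decide +kernel

theorem no_combo {T a b c d : ℕ} (h : comboOK T = true) (ha : a ∈ sizes1) (hb : b ∈ sizes2) (hc : c ∈ sizes3)
    (hd : d = 0 ∨ d ∣ 2034375) : 1 + a + b + c + d ≠ T := by
  intro he
  have := List.all_eq_true.1 (List.all_eq_true.1 (List.all_eq_true.1 h a ha) b hb) c hc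
  have e : T - (1 + a + b + c) = d := by omega
  rw [e, Bool.or_eq_true, Bool.and_eq_true, Bool.not_eq_true', Bool.not_eq_true', Nat.blt_eq] at this
  rcases this with h1 | ⟨h1, h2⟩
  · omega
  · rcases hd with rfl | hd
    · simp at h1
    · rw [Nat.mod_eq_zero_of_dvd hd] at h2; simp at h2

/-- The orbit of a representative. -/
noncomputable def orb (k : Fin 5) : Set (Spor.Ly ⧸ N0) := Set.range fun q => toPt ⟨k, q⟩

theorem orb_injective (k : Fin 5) : Function.Injective fun q : P4 ⧸ stabP k.val => toPt ⟨k, q⟩ := by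
  intro x y h
  obtain ⟨a, rfl⟩ := QuotientGroup.mk_surjective x
  obtain ⟨b, rfl⟩ := QuotientGroup.mk_surjective y
  have h' : toLy a • pt k.val = toLy b • pt k.val := h
  rw [QuotientGroup.eq, stabP, Subgroup.mem_comap, MulAction.mem_stabilizer_iff, map_mul, map_inv, mul_smul, ← h',
    inv_smul_smul]

theorem ncard_orb (k : Fin 5) : (orb k).ncard = (stabP k.val).index := by
  rw [orb, Set.ncard_range_of_injective (orb_injective k)]; rfl

theorem orb_eq_or_disjoint (j k : Fin 5) : orb j = orb k ∨ Disjoint (orb j) (orb k) := by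
  refine or_iff_not_imp_right.2 fun h => ?_
  rw [Set.not_disjoint_iff] at h
  obtain ⟨x, ⟨p, hp⟩, q, hq⟩ := h
  obtain ⟨a, rfl⟩ := QuotientGroup.mk_surjective p
  obtain ⟨b, rfl⟩ := QuotientGroup.mk_surjective q
  have key : ∀ (j k : Fin 5) (a b : P4), toLy a • pt j.val = toLy b • pt k.val → orb j ⊆ orb k := by
    intro j k a b e
    rintro _ ⟨r, rfl⟩
    obtain ⟨c, rfl⟩ := QuotientGroup.mk_surjective r
    refine ⟨((c * a⁻¹ * b : P4) : P4 ⧸ stabP k.val), ?_⟩
    show toLy (c * a⁻¹ * b) • pt k.val = toLy c • pt j.val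
    rw [map_mul, map_mul, map_inv, mul_smul, ← e, mul_smul, inv_smul_smul]
  exact Set.Subset.antisymm (key j k a b (hp.trans hq.symm)) (key k j b a (hq.trans hp.symm))

/-- The new cosets of each orbit. -/
noncomputable def freshCount (k : Fin 5) : ℕ := (orb k \ ⋃ j < k, orb j).ncard

theorem freshCount_cases (k : Fin 5) : freshCount k = 0 ∨ freshCount k = (stabP k.val).index := by
  by_cases h : ∃ j < k, orb j = orb k
  · obtain ⟨j, hj, he⟩ := h
    left
    rw [freshCount, show orb k \ (⋃ j < k, orb j) = ∅ from ?_, Set.ncard_empty]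
    exact Set.diff_eq_empty.2 fun x hx => Set.mem_iUnion₂.2 ⟨j, hj, he ▸ hx⟩
  · right
    rw [freshCount, show orb k \ (⋃ j < k, orb j) = orb k from ?_, ncard_orb]
    refine sdiff_eq_left.2 (Set.disjoint_iUnion₂_right.2 fun j hj => ?_)
    exact ((orb_eq_or_disjoint k j).resolve_left fun e => h ⟨j, hj, e.symm⟩)

theorem index_eq_sum : N0.index = ∑ k : Fin 5, freshCount k := by
  classical
  have : Fintype (Spor.Ly ⧸ N0) := Fintype.ofFinite _
  set A : Fin 5 → Finset (Spor.Ly ⧸ N0) := fun k => (orb k \ ⋃ j < k, orb j).toFinset with hA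
  have hdis : Set.PairwiseDisjoint (↑(Finset.univ : Finset (Fin 5))) A := by
    intro j _ k _ hjk
    rw [Function.onFun, hA, Finset.disjoint_left]
    intro x hx hx'
    simp only [Set.mem_toFinset, Set.mem_diff, Set.mem_iUnion, not_exists] at hx hx'
    rcases lt_or_gt_of_ne hjk with h | h
    · exact hx'.2 j h hx.1
    · exact hx.2 k h hx'.1
  have hun : (Finset.univ : Finset (Fin 5)).biUnion A = Finset.univ := by
    refine Finset.eq_univ_iff_forall.2 fun x => ?_
    obtain ⟨⟨k, q⟩, rfl⟩ := toPt_surjective x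
    set S := (Finset.univ : Finset (Fin 5)).filter fun j => toPt ⟨k, q⟩ ∈ orb j with hS
    have hne : S.Nonempty := ⟨k, Finset.mem_filter.2 ⟨Finset.mem_univ _, q, rfl⟩⟩
    refine Finset.mem_biUnion.2 ⟨S.min' hne, Finset.mem_univ _, ?_⟩
    simp only [hA, Set.mem_toFinset, Set.mem_diff, Set.mem_iUnion, not_exists]
    exact ⟨(Finset.mem_filter.1 (S.min'_mem hne)).2, fun j hj hm =>
      absurd (S.min'_le j (Finset.mem_filter.2 ⟨Finset.mem_univ _, hm⟩)) (not_le.2 hj)⟩
  have h := Finset.card_biUnion hdis
  rw [hun, Finset.card_univ, ← Nat.card_eq_fintype_card] at h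
  refine h.trans (Finset.sum_congr rfl fun k _ => ?_)
  rw [freshCount, Set.ncard_eq_toFinset_card']

theorem stabP_index_dvd {k : ℕ} (hk : k ∈ [1, 2, 3, 4]) (d : ℕ) (hd : d * stabOrders.getD k 0 = 5859000000) :
    (stabP k).index ∣ d := by
  obtain ⟨c, hc⟩ := dvd_gensK (stab_all k hk)
  have h2 := (gensK k).index_mul_card
  rw [card_P4_eq, ← hd, hc] at h2
  have hpos : 0 < stabOrders.getD k 0 := Nat.pos_of_ne_zero fun e => by rw [e, Nat.mul_zero] at hd; omega
  refine (Subgroup.index_dvd_of_le (gensK_le_stabP hk)).trans ⟨c, ?_⟩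
  refine Nat.eq_of_mul_eq_mul_right hpos ?_
  rw [← h2]
  ring

theorem freshCount_zero : freshCount 0 = 1 := by
  have h : (⋃ j < (0 : Fin 5), orb j) = ∅ := by simp
  rw [freshCount, h, Set.diff_empty, ncard_orb, show (stabP (0 : Fin 5).val) = ⊤ from stabP_zero, Subgroup.index_top]

/-- With enough primes in the order, the index is exact. -/
theorem index_eq_of_dvd (h : 2208789 ∣ N0.index) : N0.index = 8835156 := by
  have hsum : N0.index = 1 + freshCount 1 + freshCount 2 + freshCount 3 + freshCount 4 := by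
    rw [index_eq_sum, Fin.sum_univ_five, freshCount_zero]
  have hpr : ∀ p ∈ [2, 3, 5, 7, 31], Nat.Prime p := by norm_num
  have h1 : freshCount 1 ∈ sizes1 := by
    rcases freshCount_cases 1 with e | e <;> rw [e]
    · exact List.mem_cons_self
    · exact List.mem_cons_of_mem _ (mem_divList (by norm_num)
        (stabP_index_dvd (k := 1) (by simp) _ (by decide +kernel)))
  have h2 : freshCount 2 ∈ sizes2 := by
    rcases freshCount_cases 2 with e | e <;> rw [e]
    · exact List.mem_cons_self
    · exact List.mem_cons_of_mem _ (mem_divList (by norm_num)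
        (stabP_index_dvd (k := 2) (by simp) _ (by decide +kernel)))
  have h3 : freshCount 3 ∈ sizes3 := by
    rcases freshCount_cases 3 with e | e <;> rw [e]
    · exact List.mem_cons_self
    · exact List.mem_cons_of_mem _ (mem_divList (by norm_num)
        (stabP_index_dvd (k := 3) (by simp) _ (by decide +kernel)))
  have h4 : freshCount 4 = 0 ∨ freshCount 4 ∣ 2034375 := by
    refine (freshCount_cases 4).imp id fun e => ?_
    rw [e]
    exact stabP_index_dvd (k := 4) (by simp) _ (by decide +kernel)
  obtain ⟨c, hc⟩ := h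
  have hle := index_le
  have h0 : 0 < N0.index := Nat.pos_of_ne_zero Subgroup.index_ne_zero_of_finite
  have n1 := no_combo combo_one h1 h2 h3 h4
  have n2 := no_combo combo_two h1 h2 h3 h4
  have n3 := no_combo combo_three h1 h2 h3 h4
  have : c = 1 ∨ c = 2 ∨ c = 3 ∨ c = 4 := by omega
  rcases this with rfl | rfl | rfl | rfl <;> omega

theorem stabP_index_eq (h : N0.index = 8835156) :
    freshCount 1 = 19530 ∧ freshCount 2 = 968750 ∧ freshCount 3 = 5812500 ∧ freshCount 4 = 2034375 := by
  rw [index_eq_sum, Fin.sum_univ_five, freshCount_zero] at h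
  have hle : ∀ (k : Fin 5) (hk : k.val ∈ [1, 2, 3, 4]) (d : ℕ), d * stabOrders.getD k.val 0 = 5859000000 →
      freshCount k ≤ d := by
    intro k hk d hd
    rcases freshCount_cases k with e | e <;> rw [e]
    · exact Nat.zero_le _
    · refine Nat.le_of_dvd (Nat.pos_of_ne_zero fun e0 => by rw [e0, Nat.zero_mul] at hd; omega) ?_
      exact stabP_index_dvd hk d hd
  have a1 := hle 1 (by decide) 19530 (by decide +kernel)
  have a2 := hle 2 (by decide) 968750 (by decide +kernel)
  have a3 := hle 3 (by decide) 5812500 (by decide +kernel)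
  have a4 := hle 4 (by decide) 2034375 (by decide +kernel)
  omega

end CfsgLib.Sporadic.LyCoset
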