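import Cfsg.Agent.Lib.Sporadic.LyGTwo.AdFast

/-!
# Seven-dimensional matrices of the four letters acting on packed vectors (owner: helper25)
-/

set_option autoImplicit false
set_option maxRecDepth 20000

namespace CfsgLib.Sporadic.LyCoset

open CfsgLib.Sporadic.LyGTwo
open CfsgLib.Sporadic.LyRep (Mat toMat rowsOK packF packF_add packF_smul packF_zero packF_inj maskN red red_packF
  strict strict_eq)
open CfsgLib.Sporadic.PairEnum (flp)
open scoped Matrix

/-- Vectors in dimension seven. -/
abbrev V7 : Type := Fin 7 → ZMod 5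

/-- The rows of the letters. -/
def sevRows : List (List (List ℕ)) := [
  [[2,2,0,0,0,0,0],[4,3,0,0,0,0,0],[0,0,3,1,1,0,0],[0,0,1,3,4,0,0],[0,0,1,4,3,0,0],[0,0,0,0,0,4,4],[0,0,0,0,0,3,1]],
  [[1,1,0,0,0,0,0],[2,4,0,0,0,0,0],[0,0,3,1,1,0,0],[0,0,1,3,4,0,0],[0,0,1,4,3,0,0],[0,0,0,0,0,3,3],[0,0,0,0,0,1,2]],
  [[1,1,0,0,0,0,0],[0,1,0,0,0,0,0],[0,0,1,2,2,0,0],[0,0,0,1,2,0,0],[0,0,0,0,1,0,0],[0,0,0,0,0,1,1],[0,0,0,0,0,0,1]],
  [[1,4,0,0,0,0,0],[0,1,0,0,0,0,0],[0,0,1,3,2,0,0],[0,0,0,1,3,0,0],[0,0,0,0,1,0,0],[0,0,0,0,0,1,4],[0,0,0,0,0,0,1]],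
  [[1,0,4,1,4,2,2],[0,1,0,2,4,3,3],[0,0,1,0,0,4,1],[0,0,0,1,0,3,1],[0,0,0,0,1,0,1],[0,0,0,0,0,1,0],[0,0,0,0,0,0,1]],
  [[1,0,1,4,1,2,2],[0,1,0,3,1,3,3],[0,0,1,0,0,1,4],[0,0,0,1,0,2,4],[0,0,0,0,1,0,4],[0,0,0,0,0,1,0],[0,0,0,0,0,0,1]],
  [[0,0,0,0,0,2,0],[0,0,0,0,0,0,2],[0,0,1,0,0,0,0],[0,0,0,1,0,0,0],[0,0,0,0,1,0,0],[2,0,0,0,0,0,0],[0,2,0,0,0,0,0]],
  [[0,0,0,0,0,3,0],[0,0,0,0,0,0,3],[0,0,1,0,0,0,0],[0,0,0,1,0,0,0],[0,0,0,0,1,0,0],[3,0,0,0,0,0,0],[0,3,0,0,0,0,0]]]

/-- The rows, packed, with the place of their slot. -/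
def sevPacked : List (List (ℕ × ℕ)) := [
  [(33554434, 0), (50331652, 24), (79228167236631664888119296000, 48), (316912664224157080458088153088, 72), (237684506432259225734189416448, 96), (89202986111034475705806364705821687145299968, 120), (22300749186214610496283336984069542347014144, 144)],
  [(16777217, 0), (67108866, 24), (79228167236631664888119296000, 48), (316912664224157080458088153088, 72), (237684506432259225734189416448, 96), (66902239583275856779354773529366265358974976, 120), (44601491726289242067987309449103783292305408, 144)],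
  [(16777217, 0), (16777216, 24), (158456334473261922401355038720, 48), (158456329750895158056733114368, 72), (79228162514264337593543950336, 96), (22300746527758618926451591176455421786324992, 120), (22300745198530623141535718272648361505980416, 144)],
  [(67108865, 0), (16777216, 24), (158456339195628405271000252416, 48), (237684492265159495650277064704, 72), (79228162514264337593543950336, 96), (89202982123350488351058745994400506304266240, 120), (22300745198530623141535718272648361505980416, 144)],
  [(44601493055517554765557961777869987300507649, 0), (66902239583276173692014275319682378841980928, 24), (22300750515442606281199209888158077604069376, 48), (22300749186214610496288059350552411992227840, 72), (22300745198530702369698232536985955049930752, 96), (1329227995784915872903807060280344576, 120), (22300745198530623141535718272648361505980416, 144)],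
  [(44601493055517317081084586083461390674165761, 0), (66902239583275936007531454893152467855343616, 24), (89202982123350488351058745994681981280976896, 48), (89202983452578484135979341264690436229824512, 72), (89202980794122571794305387354931039567872000, 96), (1329227995784915872903807060280344576, 120), (22300745198530623141535718272648361505980416, 144)],
  [(2658455991569831745807614120560689152, 0), (44601490397061246283071436545296723011960832, 24), (281474976710656, 48), (4722366482869645213696, 72), (79228162514264337593543950336, 96), (2, 120), (33554432, 144)],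
  [(3987683987354747618711421180841033728, 0), (66902235595591869424607154817945084517941248, 24), (281474976710656, 48), (4722366482869645213696, 72), (79228162514264337593543950336, 96), (3, 120), (50331648, 144)]]

/-- a slot -/
def slotMask : ℕ := 16777215

/-- the literal slot mask -/
def sevMask : ℕ := 0x3ff0003ff0003ff0003ff0003ff0003ff0003ff

/-- The rows of a letter. -/
def sev (x : ℕ) : List (List ℕ) := sevRows.getD x []

/-- A packed vector. -/
def encV (v : V7) : ℕ := packF 7 fun j => (v j).val

/-- A packed vector times packed rows. -/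
noncomputable def vlin (C : List (ℕ × ℕ)) (c : ℕ) : ℕ := red sevMask (colDot slotMask C c)

/-- A packed vector times a word. -/
noncomputable def vword (w : List ℕ) : ℕ → ℕ :=
  List.rec (motive := fun _ => ℕ → ℕ) (fun c => c) (fun x _ ih c => strict (vlin (sevPacked.getD x []) c) ih) w

theorem sevMask_eq : sevMask = maskN 7 := by decide +kernel

theorem sev_ok : ((List.range 8).all fun x => rowsOK 7 (sev x)) = true := by decide +kernel

theorem encV_injective : Function.Injective encV := fun v w h => funext fun j =>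
  ZMod.val_injective 5 (congrFun (packF_inj 7 _ _ (fun k => (ZMod.val_lt (v k)).trans_le (by norm_num))
    (fun k => (ZMod.val_lt (w k)).trans_le (by norm_num)) h) j)

theorem slot_packF : ∀ (n : ℕ) (f : Fin n → ℕ) (k : Fin n), (∀ i, f i < 2 ^ 24) →
    packF n f / 2 ^ (24 * k.val) % 2 ^ 24 = f k
  | 0, _, k, _ => k.elim0
  | n + 1, f, k, hf => by
    induction k using Fin.cases with
    | zero =>
      rw [Fin.val_zero, Nat.mul_zero, pow_zero, Nat.div_one, packF, Nat.add_mul_mod_self_left, Nat.mod_eq_of_lt (hf 0)]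
    | succ j =>
      rw [Fin.val_succ, Nat.mul_succ, pow_add, mul_comm (2 ^ (24 * j.val)), ← Nat.div_div_eq_div_mul, packF,
        Nat.add_mul_div_left _ _ (Nat.two_pow_pos _), Nat.div_eq_of_lt (hf 0), zero_add,
        slot_packF n (fun i => f i.succ) j fun i => hf i.succ]

theorem vlin_ofFn {C : List (ℕ × ℕ)} (M : Mat 7)
    (hC : C = List.ofFn fun k : Fin 7 => (encV (M k), 24 * k.val)) (v : V7) :
    vlin C (encV v) = encV (v ᵥ* M) := by
  subst hC
  rw [vlin, colDot_ofFn]
  have hs : ∀ k : Fin 7, Nat.land (Nat.shiftRight (encV v) (24 * k.val)) slotMask = (v k).val := by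
    intro k
    show (encV v >>> (24 * k.val)) &&& slotMask = _
    rw [show slotMask = 2 ^ 24 - 1 from rfl, Nat.and_two_pow_sub_one_eq_mod, Nat.shiftRight_eq_div_pow]
    exact slot_packF 7 _ k fun i => (ZMod.val_lt _).trans_le (by norm_num)
  simp only [hs]
  have hsum : ∀ (n : ℕ) (c : Fin n → ℕ) (f : Fin n → Fin 7 → ℕ),
      ∑ k, packF 7 (f k) * c k = packF 7 fun j => ∑ k, f k j * c k := by
    intro n
    induction n with
    | zero => intro c f; simp [packF_zero]
    | succ n ih =>
      intro c f
      rw [Fin.sum_univ_succ, ih, mul_comm (packF 7 (f 0)), packF_smul, packF_add]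
      congr 1
      funext j
      rw [Fin.sum_univ_succ, mul_comm (c 0)]
  simp only [encV]
  rw [hsum, sevMask_eq, red_packF _ fun j => ?_]
  · congr 1
    funext j
    rw [← ZMod.val_natCast, Nat.cast_sum]
    congr 1
    simp only [Matrix.vecMul, dotProduct, Nat.cast_mul, ZMod.natCast_zmod_val]
    exact Finset.sum_congr rfl fun k _ => mul_comm _ _
  · refine le_trans (Finset.sum_le_sum (g := fun _ => 4 * 4) fun k _ => ?_) (by simp)
    exact Nat.mul_le_mul (Nat.le_of_lt_succ (ZMod.val_lt _)) (Nat.le_of_lt_succ (ZMod.val_lt _))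

/-- A letter as a matrix. -/
def sevMat (x : ℕ) : Mat 7 := toMat 7 (sev x)

theorem sevPacked_eq : ∀ x : Fin 8, sevPacked.getD x.val [] =
    List.ofFn fun k : Fin 7 => (encV (sevMat x.val k), 24 * k.val) := by decide +kernel

theorem vword_eq : ∀ {w : List ℕ}, (∀ x ∈ w, x < 8) → ∀ v : V7,
    vword w (encV v) = encV (v ᵥ* (w.map sevMat).prod)
  | [], _, v => by simp [vword]
  | x :: w, h, v => by
    show strict (vlin (sevPacked.getD x []) (encV v)) (vword w) = _
    rw [strict_eq, vlin_ofFn (sevMat x) (sevPacked_eq ⟨x, h x List.mem_cons_self⟩),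
      vword_eq fun y hy => h y (List.mem_cons_of_mem _ hy), List.map_cons, List.prod_cons, Matrix.vecMul_vecMul]

/-- The unit vectors. -/
def unitV (k : Fin 7) : V7 := Pi.single k 1

theorem eq_of_unit {A B : Mat 7} (h : ∀ k, unitV k ᵥ* A = unitV k ᵥ* B) : A = B :=
  Matrix.ext fun i j => by simpa [unitV, Matrix.single_one_vecMul] using congrFun (h i) j

theorem sev_inv_check : ∀ (x : Fin 8) (k : Fin 7),
    vword [x.val, x.val ^^^ 1] (encV (unitV k)) = encV (unitV k) := by decide +kernel

theorem sev_rels : words44.all (fun w => w.all (fun x => Nat.blt x 8) &&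
    (List.finRange 7).all fun k => Nat.beq (vword w (encV (unitV k))) (encV (unitV k))) = true := by decide +kernel

theorem sevMat_mul_inv {x : ℕ} (hx : x < 8) : sevMat x * sevMat (x ^^^ 1) = 1 := by
  refine eq_of_unit fun k => encV_injective ?_
  have h := sev_inv_check ⟨x, hx⟩ k
  rw [vword_eq (by simp [hx, xor_lt_eight hx])] at h
  simpa using h

theorem sevMat_inv_mul {x : ℕ} (hx : x < 8) : sevMat (x ^^^ 1) * sevMat x = 1 := by
  have h := sevMat_mul_inv (xor_lt_eight hx)
  rwa [Nat.xor_assoc, Nat.xor_self, Nat.xor_zero] at h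

/-- A letter as a unit. -/
noncomputable def sevUnit (x : ℕ) : (Mat 7)ˣ :=
  if hx : x < 8 then ⟨sevMat x, sevMat (x ^^^ 1), sevMat_mul_inv hx, sevMat_inv_mul hx⟩ else 1

theorem sevUnit_val {x : ℕ} (hx : x < 8) : ((sevUnit x : (Mat 7)ˣ) : Mat 7) = sevMat x := by simp [sevUnit, hx]

theorem sevUnit_flp (x : ℕ) : sevUnit (flp x) = (sevUnit x)⁻¹ := by
  show sevUnit (x ^^^ 1) = _
  by_cases hx : x < 8
  · apply Units.ext
    rw [sevUnit_val (xor_lt_eight hx)]
    simp [sevUnit, hx]
  · have h : ¬ x ^^^ 1 < 8 := fun h => hx (by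
      have := xor_lt_eight h
      rwa [Nat.xor_assoc, Nat.xor_self, Nat.xor_zero] at this)
    simp [sevUnit, hx, h]

theorem prod_sevUnit {w : List ℕ} (hw : ∀ x ∈ w, x < 8) :
    (((w.map sevUnit).prod : (Mat 7)ˣ) : Mat 7) = (w.map sevMat).prod := by
  rw [← Units.coeHom_apply, map_list_prod, List.map_map]
  exact congrArg List.prod (List.map_congr_left fun x hx => sevUnit_val (hw x hx))

/-- The seven-dimensional representation. -/
noncomputable def rho7 : P4 →* (Mat 7)ˣ :=
  PresentedGroup.toGroup (f := fun i : Fin 4 => sevUnit (2 * i.val)) (by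
    rintro r ⟨w, hw, rfl⟩
    have h := List.all_eq_true.1 sev_rels w hw
    simp only [Bool.and_eq_true, List.all_eq_true, Nat.blt_eq, Nat.beq_eq] at h
    rw [map_list_prod, List.map_map,
      List.map_congr_left (f := (FreeGroup.lift fun i : Fin 4 => sevUnit (2 * i.val)) ∘ fr) (g := sevUnit)
        fun k hk => map_fr _ sevUnit sevUnit_flp (fun i => FreeGroup.lift_apply_of) (h.1 k hk)]
    refine Units.ext (eq_of_unit fun k => encV_injective ?_)
    rw [prod_sevUnit h.1, ← vword_eq h.1, h.2 k (List.mem_finRange k)]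
    simp)

theorem rho7_L {x : ℕ} (hx : x < 8) : rho7 (L x) = sevUnit x :=
  map_fr (rho7.comp (PresentedGroup.mk rels)) sevUnit sevUnit_flp
    (fun i => show rho7 (PresentedGroup.of i) = _ from PresentedGroup.toGroup.of _) hx

/-- The right action on a vector. -/
noncomputable def vact (v : V7) (g : P4) : V7 := v ᵥ* ((rho7 g : (Mat 7)ˣ) : Mat 7)

theorem vact_one (v : V7) : vact v 1 = v := by simp [vact]

theorem vact_mul (v : V7) (g h : P4) : vact v (g * h) = vact (vact v g) h := by
  simp [vact, Matrix.vecMul_vecMul]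

theorem vact_word {w : List ℕ} (hw : ∀ x ∈ w, x < 8) (v : V7) :
    encV (vact v (w.map L).prod) = vword w (encV v) := by
  rw [vword_eq hw, vact, map_list_prod, List.map_map,
    List.map_congr_left (f := ⇑rho7 ∘ L) (g := sevUnit) fun x hx => rho7_L (hw x hx), prod_sevUnit hw]

end CfsgLib.Sporadic.LyCoset
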