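import Cfsg.Agent.Lib.Sporadic.LyCoset.Check

/-!
# Soundness of the deductions (owner: helper25)
-/

set_option autoImplicit false
set_option maxRecDepth 20000

namespace CfsgLib.Sporadic.LyCoset

open Cfsg CfsgLib.Sporadic CfsgLib.Sporadic.LyGTwo
open CfsgLib.Sporadic.LyGroup (gl gl_flp gl_rel prod_red relWords red)

/-- The fifth generator. -/
noncomputable def Z : Spor.Ly := gl 8

/-- What a fact says. -/
def Holds (W : ℕ → List ℕ) (e : Rec) : Prop :=
  cond e.stab (ev (W e.i) * ev e.a = ev e.l * ev (W e.i))
    (ev (W e.i) * ev e.a * Z = ev e.l * ev (W e.k) * ev e.m)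

/-- The first facts hold. -/
def HoldsUpTo (W : ℕ → List ℕ) (F : List Rec) (lim : ℕ) : Prop :=
  ∀ q e, q < lim → F[q]? = some e → Holds W e

/-- The base representatives. -/
def BaseW (W : ℕ → List ℕ) : Prop := W 0 = [] ∧ W 1 = [8]

theorem ev_of_red {w : List ℕ} (h : (relWords.map red).contains (red w) = true) : ev w = 1 := by
  rw [List.contains_iff_mem, List.mem_map] at h
  obtain ⟨v, hv, he⟩ := h
  rw [ev, ← prod_red gl_flp, ← he, prod_red gl_flp, gl_rel hv]

theorem zRels_ok : zRels.all (fun w => (relWords.map red).contains (red w)) = true := by decide +kernel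

theorem ev_zRels (r : ℕ) : ev (zRels.getD r []) = 1 := by
  rcases Nat.lt_or_ge r zRels.length with h | h
  · rw [List.getD_eq_getElem _ _ h]
    exact ev_of_red (List.all_eq_true.1 zRels_ok _ (List.getElem_mem h))
  · rw [List.getD_eq_default _ _ h, ev_nil]

theorem sq_ok : (relWords.map red).contains (red [8, 8, 1, 1]) = true := by decide +kernel

theorem gl_nine : gl 9 = Z⁻¹ := gl_flp 8

theorem gl_one_eq : gl 1 = (gl 0)⁻¹ := gl_flp 0

theorem Z_sq : Z * Z = ev [0, 0] := by
  have h := ev_of_red sq_ok
  simp only [ev_cons, ev_nil, mul_one, gl_one_eq] at h ⊢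
  rw [← mul_inv_rev, ← mul_assoc, mul_inv_eq_one] at h
  exact h

theorem Z_inv : Z⁻¹ = ev [1, 1] * Z := by
  have h : ev [1, 1] = (ev [0, 0])⁻¹ := by simp [gl_one_eq]
  rw [h, ← Z_sq, mul_inv_rev, inv_mul_cancel_right]

theorem conj_ok : ∀ g : Fin 8, (isN (mGen.getD g.val []) = true ∧ isN (mImg.getD g.val []) = true) ∧
    (relWords.map red).contains (red ([9] ++ mGen.getD g.val [] ++ [8] ++ wInv (mImg.getD g.val []))) = true := by
  decide +kernel

theorem conj_gen {g : ℕ} (hg : g < 8) :
    ev (mGen.getD g []) * Z = Z * ev (mImg.getD g []) := by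
  have h := ev_of_red (conj_ok ⟨g, hg⟩).2
  rw [ev_append, ev_append, ev_append, ev_wInv] at h
  simp only [ev_cons, ev_nil, mul_one, gl_nine] at h
  rw [mul_inv_eq_one, mul_assoc, inv_mul_eq_iff_eq_mul] at h
  exact h

theorem mw_phw : ∀ {h : List ℕ}, (h.all fun g => Nat.blt g 8) = true →
    isN (mw h) = true ∧ isN (phw h) = true ∧ ev (mw h) * Z = Z * ev (phw h)
  | [], _ => ⟨rfl, rfl, by simp [mw, phw]⟩
  | g :: h, hh => by
    simp only [List.all_cons, Bool.and_eq_true, Nat.blt_eq] at hh
    obtain ⟨h1, h2, h3⟩ := mw_phw hh.2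
    obtain ⟨hn1, hn2⟩ := (conj_ok ⟨g, hh.1⟩).1
    have e1 : mw (g :: h) = mGen.getD g [] ++ mw h := rfl
    have e2 : phw (g :: h) = mImg.getD g [] ++ phw h := rfl
    refine ⟨by rw [e1, isN_append, hn1, h1]; rfl, by rw [e2, isN_append, hn2, h2]; rfl, ?_⟩
    rw [e1, e2, ev_append, ev_append, mul_assoc, h3, ← mul_assoc, conj_gen hh.1, mul_assoc]

theorem Z_mw {h : List ℕ} (hh : (h.all fun g => Nat.blt g 8) = true) :
    Z * ev (mw h) = ev ([0, 0] ++ (phw h ++ [1, 1])) * Z := by
  obtain ⟨-, -, h3⟩ := mw_phw hh
  rw [ev_append, ev_append, mul_assoc, mul_assoc, ← Z_inv, ← Z_sq, mul_assoc Z Z, ← mul_assoc Z (ev (phw h)), ← h3,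
    mul_inv_cancel_right]

variable {W : ℕ → List ℕ} {F : List Rec}

theorem stabPair_sound {lim i : ℕ} (hF : HoldsUpTo W F lim) : ∀ {h : List ℕ} {r : List ℕ × List ℕ},
    stabPair F lim i h = some r → isN r.1 = true ∧ isN r.2 = true ∧ ev (W i) * ev r.1 = ev r.2 * ev (W i)
  | [], r, h => by
    obtain rfl : ([], []) = r := Option.some.inj h
    exact ⟨rfl, rfl, by simp⟩
  | q :: h, r, hr => by
    have hr' : Option.rec none (fun r' => (match F[q]? with
      | none => none
      | some e => cond (Nat.blt q lim && (e.stab && (Nat.beq e.i i && (isN e.a && isN e.l))))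
          (some (e.a ++ r'.1, e.l ++ r'.2)) none)) (stabPair F lim i h) = some r := hr
    cases hh : stabPair F lim i h with
    | none => rw [hh] at hr'; simp at hr'
    | some r' =>
      rw [hh] at hr'
      dsimp only at hr'
      cases he : F[q]? with
      | none => rw [he] at hr'; simp at hr'
      | some e =>
        rw [he] at hr'
        dsimp only at hr'
        cases hc : (Nat.blt q lim && (e.stab && (Nat.beq e.i i && (isN e.a && isN e.l)))) with
        | false => rw [hc] at hr'; simp at hr'
        | true =>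
          rw [hc, cond_true, Option.some.injEq] at hr'
          subst hr'
          simp only [Bool.and_eq_true, Nat.blt_eq, Nat.beq_eq] at hc
          obtain ⟨hlim, hs, hi, ha, hl⟩ := hc
          obtain ⟨ha', hl', heq'⟩ := stabPair_sound hF hh
          have hE := hF q e hlim he
          rw [Holds, hs, cond_true, hi] at hE
          refine ⟨by rw [isN_append, ha, ha']; rfl, by rw [isN_append, hl, hl']; rfl, ?_⟩
          rw [ev_append, ev_append, ← mul_assoc, hE, mul_assoc, heq', mul_assoc]

theorem hSpec_sound (hW : BaseW W) {lim i : ℕ} {h : List ℕ} {r : List ℕ × List ℕ} (hF : HoldsUpTo W F lim)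
    (hr : hSpec F lim i h = some r) : isN r.1 = true ∧ isN r.2 = true ∧ ev (W i) * ev r.1 = ev r.2 * ev (W i) := by
  unfold hSpec at hr
  cases h0 : Nat.beq i 0 with
  | true =>
    rw [h0, cond_true] at hr
    cases hn : isN h with
    | false => simp [hn] at hr
    | true =>
      rw [hn, cond_true, Option.some.injEq] at hr
      subst hr
      rw [Nat.eq_of_beq_eq_true h0, hW.1]
      exact ⟨hn, hn, by simp⟩
  | false =>
    rw [h0, cond_false] at hr
    cases h1 : Nat.beq i 1 with
    | true =>
      rw [h1, cond_true] at hr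
      cases hh : h.all fun g => Nat.blt g 8 with
      | false => simp [hh] at hr
      | true =>
        rw [hh, cond_true, Option.some.injEq] at hr
        subst hr
        obtain ⟨n1, n2, -⟩ := mw_phw hh
        rw [Nat.eq_of_beq_eq_true h1, hW.2]
        refine ⟨n1, by rw [isN_append, isN_append, n2]; rfl, ?_⟩
        rw [ev_cons, ev_nil, mul_one]
        exact Z_mw hh
    | false =>
      rw [h1, cond_false] at hr
      exact stabPair_sound hF hr

theorem useRes_sound (hW : BaseW W) {lim i : ℕ} {n : List ℕ} {u : Use} {r : ℕ × List ℕ × List ℕ}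
    (hF : HoldsUpTo W F lim) (h : useRes F lim i n u = some r) :
    isN r.2.1 = true ∧ isN r.2.2 = true ∧ ev (W i) * ev n * Z = ev r.2.1 * ev (W r.1) * ev r.2.2 := by
  unfold useRes at h
  split at h
  next e ha hl he hs =>
    cases hc : (Nat.blt u.q lim && (!e.stab && (Nat.beq e.i i && (isN e.l && (isN e.m &&
        ((u.mm.all fun g => Nat.blt g 8) && eqN n (ha ++ (e.a ++ mw u.mm)))))))) with
    | false => rw [hc] at h; simp at h
    | true =>
      rw [hc, cond_true, Option.some.injEq] at h
      subst h
      simp only [Bool.and_eq_true, Nat.blt_eq, Nat.beq_eq, Bool.not_eq_true'] at hc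
      obtain ⟨hlim, hst, hi, hlN, hmN, hmm, heq⟩ := hc
      obtain ⟨-, hphN, hconj⟩ := mw_phw hmm
      obtain ⟨-, -, hval⟩ := eqN_sound heq
      obtain ⟨-, hhlN, hstab⟩ := hSpec_sound hW hF hs
      have hE := hF _ e hlim he
      rw [Holds, hst, cond_false, hi] at hE
      dsimp only at hhlN hstab ⊢
      refine ⟨by rw [isN_append, hhlN, hlN]; rfl, by rw [isN_append, hmN, hphN]; rfl, ?_⟩
      rw [hval]
      simp only [ev_append]
      calc ev (W i) * (ev ha * (ev e.a * ev (mw u.mm))) * Z
          = (ev (W i) * ev ha) * ev e.a * (ev (mw u.mm) * Z) := by group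
        _ = ev hl * (ev (W i) * ev e.a * Z) * ev (phw u.mm) := by rw [hstab, hconj]; group
        _ = _ := by rw [hE]; group
  next => simp at h

theorem trace_sound (hW : BaseW W) {lim : ℕ} (hF : HoldsUpTo W F lim) : ∀ {ops : List ℕ} {us : List Use}
    {s r : ℕ × List ℕ × List ℕ}, isN s.2.1 = true → isN s.2.2 = true → trace F lim ops us s = some r →
    isN r.2.1 = true ∧ isN r.2.2 = true ∧
      ev s.2.2 * ev (W s.1) * ev s.2.1 * ev ops = ev r.2.2 * ev (W r.1) * ev r.2.1
  | [], [], s, r, hn, hl, h => by
    obtain rfl : s = r := by simpa [trace] using h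
    exact ⟨hn, hl, by simp⟩
  | [], _ :: _, s, r, _, _, h => by simp [trace] at h
  | g :: ops, us, (i, n, l), r, hn, hl, h => by
    simp only [trace] at h
    cases hg : Nat.blt g 8 with
    | true =>
      rw [hg, cond_true] at h
      obtain ⟨h1, h2, h3⟩ := trace_sound hW hF (s := (i, n ++ [g], l))
        (by rw [isN_append, hn]; simpa [isN] using hg) hl h
      refine ⟨h1, h2, ?_⟩
      rw [← h3]
      simp [mul_assoc]
    | false =>
      rw [hg, cond_false] at h
      cases us with
      | nil => simp at h
      | cons u us =>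
        dsimp only at h
        cases h10 : Nat.blt g 10 with
        | false => rw [h10] at h; simp at h
        | true =>
          rw [h10, cond_true] at h
          set n' := cond (Nat.beq g 8) n (n ++ [1, 1]) with hn'
          have hval : ev n * gl g = ev n' * Z := by
            have hge : 8 ≤ g := by
              rw [Bool.eq_false_iff] at hg
              by_contra hlt
              exact hg (by simpa using Nat.lt_of_not_le hlt)
            have hlt : g < 10 := by simpa using h10
            interval_cases g
            · simp [hn', Z]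
            · rw [gl_nine, Z_inv, hn', show Nat.beq 9 8 = false from rfl, cond_false, ev_append, mul_assoc]
          cases hu : useRes F lim i n' u with
          | none => rw [hu] at h; simp at h
          | some q =>
            obtain ⟨k, hl', m⟩ := q
            rw [hu] at h
            dsimp only at h
            obtain ⟨hlN, hmN, heq⟩ := useRes_sound hW hF hu
            dsimp only at hlN hmN heq
            obtain ⟨h1, h2, h3⟩ := trace_sound hW hF (s := (k, m, l ++ hl')) hmN
              (by rw [isN_append, hlN]; simpa using hl) h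
            refine ⟨h1, h2, ?_⟩
            rw [← h3]
            dsimp only
            calc ev l * ev (W i) * ev n * ev (g :: ops)
                = ev l * ev (W i) * (ev n * gl g) * ev ops := by rw [ev_cons]; group
              _ = ev l * (ev (W i) * ev n' * Z) * ev ops := by rw [hval]; group
              _ = _ := by rw [heq, ev_append]; group

theorem ev_loop (d : Deriv) : ev (loopWord d) = 1 := by
  have h : ev (cond d.inv (wInv (zRels.getD d.r [])) (zRels.getD d.r [])) = 1 := by
    cases d.inv
    · exact ev_zRels _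
    · rw [cond_true, ev_wInv, ev_zRels, inv_one]
  simp only [loopWord]
  set w := cond d.inv (wInv (zRels.getD d.r [])) (zRels.getD d.r [])
  rw [← List.take_append_drop d.rot w, ev_append] at h
  rw [ev_append]
  exact mul_eq_one_comm.1 h

theorem take_wInv (L : List ℕ) (b : ℕ) : (wInv L).take b = wInv (L.drop (L.length - b)) := by
  rw [wInv, wInv, ← List.map_take, List.take_reverse]

theorem derivOK_sound (hW : BaseW W) {q : ℕ} {e : Rec} {d : Deriv} (hF : HoldsUpTo W F q)
    (h : derivOK F q e d = true) : Holds W e := by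
  simp only [derivOK, Bool.and_eq_true] at h
  obtain ⟨hx, -, h⟩ := h
  split at h
  next k1 n1 l1 k2 n2 l2 hf hb =>
    obtain ⟨-, -, e1⟩ := trace_sound hW hF (s := (d.s, d.x, [])) hx rfl hf
    obtain ⟨-, -, e2⟩ := trace_sound hW hF (s := (d.s, d.x, [])) hx rfl hb
    dsimp only at e1 e2
    rw [ev_nil, one_mul] at e1 e2
    rw [take_wInv, ev_wInv] at e2
    have htot := ev_loop d
    set L := loopWord d
    simp only [Bool.and_eq_true, Nat.beq_eq] at h
    obtain ⟨hi, hk, h⟩ := h
    unfold Holds
    cases hs : e.stab with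
    | true =>
      rw [hs, cond_true] at h
      simp only [Bool.and_eq_true, Nat.beq_eq] at h
      obtain ⟨hlen, h12, -, hea, hel⟩ := h
      obtain ⟨-, -, va⟩ := eqN_sound hea
      obtain ⟨-, -, vl⟩ := eqN_sound hel
      rw [show L.length - d.b = d.p by omega] at e2
      rw [← List.take_append_drop d.p L, ev_append] at htot
      have hA : ev (L.take d.p) = (ev (L.drop d.p))⁻¹ := eq_inv_of_mul_eq_one_left htot
      rw [← hA, e1, ← h12] at e2
      rw [cond_true, hi, va, vl, ev_append, ev_append, ev_wInv, ev_wInv]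
      calc ev (W k1) * (ev n1 * (ev n2)⁻¹)
          = (ev l1)⁻¹ * (ev l1 * ev (W k1) * ev n1) * (ev n2)⁻¹ := by group
        _ = _ := by rw [e2]; group
    | false =>
      rw [hs, cond_false] at h
      simp only [Bool.and_eq_true, Nat.beq_eq, Nat.ble_eq, Nat.blt_eq] at h
      obtain ⟨hlen, hg8, hg10, hea, hem, hel⟩ := h
      obtain ⟨-, -, va⟩ := eqN_sound hea
      obtain ⟨-, -, vm⟩ := eqN_sound hem
      obtain ⟨-, -, vl⟩ := eqN_sound hel
      rw [show L.length - d.b = d.p + 1 by omega] at e2
      have hp : d.p < L.length := by omega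
      rw [List.getD_eq_getElem _ _ hp] at hg8 hg10 va
      rw [← List.take_append_drop d.p L, List.drop_eq_getElem_cons hp, ev_append, ev_cons, ← mul_assoc] at htot
      have hA : ev (L.take d.p) * gl L[d.p] = (ev (L.drop (d.p + 1)))⁻¹ := eq_inv_of_mul_eq_one_left htot
      rw [← hA] at e2
      have key : ev (W k1) * ev n1 * gl L[d.p] = (ev l1)⁻¹ * ev l2 * ev (W k2) * ev n2 := by
        calc ev (W k1) * ev n1 * gl L[d.p]
            = (ev l1)⁻¹ * (ev l1 * ev (W k1) * ev n1) * gl L[d.p] := by group
          _ = (ev l1)⁻¹ * (ev (W d.s) * ev d.x * (ev (L.take d.p) * gl L[d.p])) := by rw [← e1]; group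
          _ = _ := by rw [e2]; group
      rw [cond_false, hi, hk, va, vm, vl, ev_append, ev_wInv, ← key]
      generalize hg : L[d.p] = g at hg8 hg10 ⊢
      interval_cases g
      · simp [Z]
      · rw [gl_nine, show Nat.beq 9 8 = false from rfl, cond_false, ev_append, mul_assoc (ev (W k1)), mul_assoc (ev n1),
          ← Z_inv, ← mul_assoc]
  next => simp at h

theorem factOK_sound (hW : BaseW W) {q : ℕ} {e : Rec} {y : Why} (hF : HoldsUpTo W F q)
    (h : factOK W F q e y = true) : Holds W e := by
  cases y with
  | defn =>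
    simp only [factOK, Bool.and_eq_true, Bool.not_eq_true', decide_eq_true_eq, List.isEmpty_iff] at h
    obtain ⟨hs, hl, hm, -, hk⟩ := h
    rw [Holds, hs, cond_false, hl, hm, hk]
    simp [Z, mul_assoc]
  | rev src =>
    simp only [factOK, Bool.and_eq_true, Bool.not_eq_true', Nat.blt_eq] at h
    obtain ⟨⟨hlt, hs⟩, h⟩ := h
    cases hsrc : F[src]? with
    | none => rw [hsrc] at h; simp at h
    | some f =>
      rw [hsrc] at h
      simp only [Bool.and_eq_true, Bool.not_eq_true', Nat.beq_eq] at h
      obtain ⟨hfs, hi, hk, hea, hel, hem⟩ := h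
      have hf := hF src f hlt hsrc
      rw [Holds, hfs, cond_false] at hf
      rw [Holds, hs, cond_false, hi, hk, (eqN_sound hea).2.2, (eqN_sound hel).2.2, (eqN_sound hem).2.2, ev_wInv,
        ev_append, ← Z_sq]
      calc ev (W f.k) * ev f.m * Z
          = (ev f.l)⁻¹ * (ev f.l * ev (W f.k) * ev f.m) * Z := by group
        _ = _ := by rw [← hf]; group
  | loop d => exact derivOK_sound hW hF h

/-- All facts of a checked list hold. -/
theorem facts_hold (hW : BaseW W) {why : List Why}
    (h : ∀ q < F.length, (match F[q]?, why[q]? with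
      | some e, some y => factOK W F q e y
      | _, _ => false) = true) : HoldsUpTo W F F.length := by
  intro q
  induction q using Nat.strong_induction_on with
  | _ q ih =>
    intro e hq he
    have h' := h q hq
    rw [he] at h'
    cases hy : why[q]? with
    | none => rw [hy] at h'; simp at h'
    | some y =>
      rw [hy] at h'
      exact factOK_sound hW (fun r x hr hx => ih r hr x (hr.trans hq) hx) h'

end CfsgLib.Sporadic.LyCoset
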