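import Cfsg.Agent.Lib.Sporadic.LyCoset.Seven

/-!
# Compact vectors, unordered pairs of lines, and their images (owner: helper25)
-/

set_option autoImplicit false
set_option maxRecDepth 20000

namespace CfsgLib.Sporadic.LyCoset

open CfsgLib.Sporadic.LyGTwo
open CfsgLib.Sporadic.LyRep (Mat packF packF_add packF_smul packF_zero maskN red red_packF)
open scoped Matrix

/-- A compact code as a vector. -/
def decC (c : ℕ) : V7 := fun j => ((Nat.land (Nat.shiftRight c (3 * j.val)) 7 : ℕ) : ZMod 5)

/-- The unit rows for expanding a compact code. -/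
def expRows : List (ℕ × ℕ) :=
  [(1, 0), (16777216, 3), (281474976710656, 6), (4722366482869645213696, 9), (79228162514264337593543950336, 12),
    (1329227995784915872903807060280344576, 15), (22300745198530623141535718272648361505980416, 18)]

/-- A compact code expanded. -/
noncomputable def expC (c : ℕ) : ℕ := red sevMask (colDot 7 expRows c)

/-- A scalar times an expanded vector. -/
noncomputable def scl (a x : ℕ) : ℕ := red sevMask (a * x)

theorem clin_ofFn {C : List (ℕ × ℕ)} (M : Mat 7)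
    (hC : C = List.ofFn fun k : Fin 7 => (encV (M k), 3 * k.val)) (c : ℕ) :
    red sevMask (colDot 7 C c) = encV (decC c ᵥ* M) := by
  subst hC
  rw [colDot_ofFn]
  have hsum : ∀ (n : ℕ) (c : Fin n → ℕ) (f : Fin n → Fin 7 → ℕ),
      ∑ k, packF 7 (f k) * c k = packF 7 fun j => ∑ k, f k j * c k := by
    intro n
    induction n with
    | zero => intro c f; simp [packF_zero]
    | succ n ih =>
      intro c f
      rw [Fin.sum_univ_succ, ih, mul_comm (packF 7 (f 0)), packF_smul, packF_add]
      congr 1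
      funext j
      rw [Fin.sum_univ_succ, mul_comm (c 0)]
  simp only [encV]
  rw [hsum, sevMask_eq, red_packF _ fun j => ?_]
  · congr 1
    funext j
    rw [← ZMod.val_natCast, Nat.cast_sum]
    congr 1
    simp only [Matrix.vecMul, dotProduct, Nat.cast_mul, ZMod.natCast_zmod_val, decC]
    exact Finset.sum_congr rfl fun k _ => mul_comm _ _
  · refine le_trans (Finset.sum_le_sum (g := fun _ => 4 * 7) fun k _ => ?_) (by simp)
    exact Nat.mul_le_mul (Nat.le_of_lt_succ (ZMod.val_lt _)) Nat.and_le_right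

theorem expRows_eq : expRows = List.ofFn fun k : Fin 7 => (encV ((1 : Mat 7) k), 3 * k.val) := by decide +kernel

theorem expC_eq (c : ℕ) : expC c = encV (decC c) := by
  rw [expC, clin_ofFn 1 expRows_eq, Matrix.vecMul_one]

theorem scl_eq {a : ℕ} (ha : a ≤ 4) (v : V7) : scl a (encV v) = encV ((a : ZMod 5) • v) := by
  simp only [scl, encV]
  rw [packF_smul, sevMask_eq, red_packF _ fun j => ?_]
  · congr 1
    funext j
    rw [Pi.smul_apply, smul_eq_mul, ZMod.val_mul, ZMod.val_natCast, Nat.mod_eq_of_lt (show a < 5 by omega)]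
  · exact le_trans (Nat.mul_le_mul ha (Nat.le_of_lt_succ (ZMod.val_lt _))) (by norm_num)

/-- Compact vectors are normalised. -/
noncomputable def canGo (c : ℕ) : ℕ → ℕ → Bool :=
  Nat.rec (motive := fun _ => ℕ → Bool) (fun _ => false) fun _ ih s =>
    cond (Nat.beq (Nat.land (Nat.shiftRight c (3 * s)) 7) 1) true
      (cond (Nat.beq (Nat.land (Nat.shiftRight c (3 * s)) 7) 0) (ih (s + 1)) false)

/-- The first nonzero entry is one. -/
def Canon (v : V7) : Prop := ∃ i, v i = 1 ∧ ∀ j < i, v j = 0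

theorem canGo_sound {c : ℕ} : ∀ {n s : ℕ}, n + s = 7 → (∀ j : Fin 7, j.val < s → decC c j = 0) →
    canGo c n s = true → Canon (decC c)
  | 0, _, _, _, h => by simp [canGo] at h
  | n + 1, s, hn, hz, h => by
    have h' : cond (Nat.beq (Nat.land (Nat.shiftRight c (3 * s)) 7) 1) true
      (cond (Nat.beq (Nat.land (Nat.shiftRight c (3 * s)) 7) 0) (canGo c n (s + 1)) false) = true := h
    by_cases h1 : Nat.land (Nat.shiftRight c (3 * s)) 7 = 1
    · exact ⟨⟨s, by omega⟩, (congrArg (Nat.cast (R := ZMod 5)) h1).trans Nat.cast_one, fun j hj => hz j hj⟩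
    · rw [Bool.eq_false_iff.2 (fun e => h1 (Nat.eq_of_beq_eq_true e)), cond_false] at h'
      by_cases h0 : Nat.land (Nat.shiftRight c (3 * s)) 7 = 0
      · rw [h0, show Nat.beq 0 0 = true from rfl, cond_true] at h'
        refine canGo_sound (by omega) (fun j hj => ?_) h'
        rcases Nat.lt_or_ge j.val s with hlt | hge
        · exact hz j hlt
        · obtain rfl : j.val = s := by omega
          exact (congrArg (Nat.cast (R := ZMod 5)) h0).trans Nat.cast_zero
      · rw [Bool.eq_false_iff.2 (fun e => h0 (Nat.eq_of_beq_eq_true e)), cond_false] at h'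
        exact absurd h' Bool.false_ne_true

theorem canon_scalar {v : V7} {l : ZMod 5} (hv : Canon v) (hlv : Canon (l • v)) : l = 1 := by
  obtain ⟨i, hi, hi0⟩ := hv
  obtain ⟨k, hk, hk0⟩ := hlv
  simp only [Pi.smul_apply, smul_eq_mul] at hk hk0
  rcases lt_trichotomy i k with h | h | h
  · have := hk0 i h; rw [hi, mul_one] at this; subst this; simp at hk
  · subst h; rwa [hi, mul_one] at hk
  · rw [hi0 k h, mul_zero] at hk; exact absurd hk (by decide)

/-- The nonzero multiples of two vectors. -/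
noncomputable def pairSet (p q : V7) : Finset V7 :=
  ((Finset.univ : Finset (ZMod 5)).erase 0).image (· • p) ∪ ((Finset.univ : Finset (ZMod 5)).erase 0).image (· • q)

theorem mem_pairSet {p q v : V7} : v ∈ pairSet p q ↔ (∃ l : ZMod 5, l ≠ 0 ∧ l • p = v) ∨ ∃ l : ZMod 5, l ≠ 0 ∧ l • q = v := by
  simp [pairSet]

theorem pairSet_comm (p q : V7) : pairSet p q = pairSet q p := Finset.union_comm _ _

theorem pairSet_smul {a b : ZMod 5} (ha : a ≠ 0) (hb : b ≠ 0) (p q : V7) :
    pairSet (a • p) (b • q) = pairSet p q := by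
  ext v
  simp only [mem_pairSet]
  have key : ∀ {c : ZMod 5} (_ : c ≠ 0) (p : V7),
      (∃ l : ZMod 5, l ≠ 0 ∧ l • c • p = v) ↔ ∃ l : ZMod 5, l ≠ 0 ∧ l • p = v := fun {c} hc p =>
    ⟨fun ⟨l, hl, e⟩ => ⟨l * c, mul_ne_zero hl hc, by rw [← e, smul_smul]⟩,
      fun ⟨l, hl, e⟩ => ⟨l * c⁻¹, mul_ne_zero hl (inv_ne_zero hc), by
        rw [smul_smul, mul_assoc, inv_mul_cancel₀ hc, mul_one, e]⟩⟩
  haveI : Fact (Nat.Prime 5) := ⟨by norm_num⟩
  rw [key ha, key hb]

theorem pairSet_inj {p q p' q' : V7} (hp : Canon p) (hq : Canon q) (hp' : Canon p') (hq' : Canon q')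
    (hlt : encV p < encV q) (hlt' : encV p' < encV q') (h : pairSet p q = pairSet p' q') : p = p' ∧ q = q' := by
  have key : ∀ {x}, Canon x → x ∈ pairSet p' q' → x = p' ∨ x = q' := by
    intro x hx hm
    rcases mem_pairSet.1 hm with ⟨l, -, e⟩ | ⟨l, -, e⟩ <;> subst e
    · rw [canon_scalar hp' hx, one_smul]; exact Or.inl rfl
    · rw [canon_scalar hq' hx, one_smul]; exact Or.inr rfl
  have h1 := key hp (h ▸ mem_pairSet.2 (Or.inl ⟨1, one_ne_zero, one_smul _ _⟩))
  have h2 := key hq (h ▸ mem_pairSet.2 (Or.inr ⟨1, one_ne_zero, one_smul _ _⟩))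
  rcases h1 with rfl | rfl <;> rcases h2 with rfl | rfl
  · omega
  · exact ⟨rfl, rfl⟩
  · omega
  · omega

theorem vact_smul (l : ZMod 5) (v : V7) (g : P4) : vact (l • v) g = l • vact v g := by
  simp [vact, Matrix.smul_vecMul]

/-- The image of a set of vectors. -/
noncomputable def actU (g : P4) (U : Finset V7) : Finset V7 := U.image fun v => vact v g

/-- The image of a state. -/
noncomputable def actSt (g : P4) (s : Finset (Finset V7)) : Finset (Finset V7) := s.image (actU g)

theorem actU_pairSet (g : P4) (p q : V7) : actU g (pairSet p q) = pairSet (vact p g) (vact q g) := by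
  ext v
  simp only [actU, Finset.mem_image, mem_pairSet]
  constructor
  · rintro ⟨w, ⟨l, hl, rfl⟩ | ⟨l, hl, rfl⟩, rfl⟩
    · exact Or.inl ⟨l, hl, (vact_smul _ _ _).symm⟩
    · exact Or.inr ⟨l, hl, (vact_smul _ _ _).symm⟩
  · rintro (⟨l, hl, rfl⟩ | ⟨l, hl, rfl⟩)
    · exact ⟨l • p, Or.inl ⟨l, hl, rfl⟩, vact_smul _ _ _⟩
    · exact ⟨l • q, Or.inr ⟨l, hl, rfl⟩, vact_smul _ _ _⟩

theorem actSt_one (s : Finset (Finset V7)) : actSt 1 s = s := by
  have : actU 1 = id := funext fun U => by simp [actU, vact_one]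
  rw [actSt, this, Finset.image_id]

theorem actSt_mul (g h : P4) (s : Finset (Finset V7)) : actSt (g * h) s = actSt h (actSt g s) := by
  rw [actSt, actSt, actSt, Finset.image_image]
  congr 1
  funext U
  simp only [Function.comp_apply, actU, Finset.image_image]
  congr 1
  funext v
  exact vact_mul v g h

end CfsgLib.Sporadic.LyCoset
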