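import Cfsg.Agent.Lib.Sporadic.LyGTwo.Iso
import Cfsg.Agent.Lib.Sporadic.LyGTwo.AdFast

/-!
# Words in five letters and equality in the subgroup G₂(5) (owner: helper25)
-/

set_option autoImplicit false
set_option maxRecDepth 20000

namespace CfsgLib.Sporadic.LyCoset

open Cfsg CfsgLib.Sporadic CfsgLib.Sporadic.LyGTwo
open CfsgLib.Sporadic.LyGroup (gl gl_flp)
open CfsgLib.Sporadic.PairEnum (flp prod_winv)

/-- The value of a word. -/
noncomputable def ev (w : List ℕ) : Spor.Ly := (w.map gl).prod

@[simp] theorem ev_nil : ev [] = 1 := rfl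
@[simp] theorem ev_cons (k : ℕ) (w : List ℕ) : ev (k :: w) = gl k * ev w := by simp [ev]
@[simp] theorem ev_append (u v : List ℕ) : ev (u ++ v) = ev u * ev v := by simp [ev]

/-- A word in the letters of the subgroup. -/
noncomputable def isN (w : List ℕ) : Bool := w.all fun k => Nat.blt k 8

/-- The inverse word. -/
noncomputable def wInv (w : List ℕ) : List ℕ := w.reverse.map fun x => Nat.xor x 1

/-- Equality in the subgroup. -/
noncomputable def eqN (u v : List ℕ) : Bool := isN u && (isN v && Nat.beq (evalFast u) (evalFast v))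

theorem isN_iff {w : List ℕ} : isN w = true ↔ ∀ k ∈ w, k < 8 := by simp [isN, List.all_eq_true]

theorem isN_append {u v : List ℕ} : isN (u ++ v) = (isN u && isN v) := by simp [isN, List.all_append]

theorem isN_wInv {w : List ℕ} (h : isN w = true) : isN (wInv w) = true := by
  rw [isN_iff] at h ⊢
  intro k hk
  obtain ⟨x, hx, rfl⟩ := List.mem_map.1 hk
  exact xor_lt_eight (h x (List.mem_reverse.1 hx))

theorem ev_wInv (w : List ℕ) : ev (wInv w) = (ev w)⁻¹ := prod_winv gl_flp w

theorem toLy_L {k : ℕ} (hk : k < 8) : toLy (L k) = gl k :=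
  map_fr (toLy.comp (PresentedGroup.mk rels)) gl gl_flp (fun i => toLy_of i) hk

theorem ev_of_isN {w : List ℕ} (h : isN w = true) : ev w = toLy (w.map L).prod := by
  rw [map_list_prod, List.map_map, ev]
  exact congrArg List.prod (List.map_congr_left fun k hk => (toLy_L (isN_iff.1 h k hk)).symm)

theorem toAd_injective : Function.Injective toAd := fun a b h =>
  toChev_bijective.1 (Subtype.ext (by simpa [toChev] using h))

theorem eqN_eq {u v : List ℕ} (h : eqN u v = true) : (u.map L).prod = (v.map L).prod := by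
  simp only [eqN, Bool.and_eq_true, Nat.beq_eq] at h
  obtain ⟨hu, hv, hf⟩ := h
  have he := evalAd_of_fast (isN_iff.1 hu) (isN_iff.1 hv) hf
  refine toAd_injective ?_
  rw [toAd_prod (isN_iff.1 hu), toAd_prod (isN_iff.1 hv)]
  congr 1
  apply Units.ext
  rw [prod_adUnit (isN_iff.1 hu), prod_adUnit (isN_iff.1 hv)]
  exact prod_eq_of_evalAd (isN_iff.1 hu) (isN_iff.1 hv) he

theorem eqN_sound {u v : List ℕ} (h : eqN u v = true) : isN u = true ∧ isN v = true ∧ ev u = ev v := by
  have he := eqN_eq h
  simp only [eqN, Bool.and_eq_true] at h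
  exact ⟨h.1, h.2.1, by rw [ev_of_isN h.1, ev_of_isN h.2.1, he]⟩

end CfsgLib.Sporadic.LyCoset
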